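import Cfsg.Agent.ExtPrim.Centralizers
import Cfsg.Agent.FGSA.GTCriterion
import Cfsg.Agent.FGSA.ThompsonNil
import Cfsg.Agent.Fusion.InnerZJ
import Cfsg.Agent.ZJ.Constrained
import Cfsg.Agent.Transfer.Basic
import Cfsg.Agent.Solvable.Basics

/-!
A finite group in which the centralizer of every noncentral element is a maximal subgroup is
solvable.
-/

set_option autoImplicit false
set_option linter.style.haveILetI false
set_option linter.unusedSectionVars false

namespace CfsgLib.CentMax

open Subgroup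

universe u

variable {G : Type u} [Group G]

/-- The centralizer of an element. -/
abbrev C (x : G) : Subgroup G := Subgroup.centralizer ({x} : Set G)

theorem mem_C {x y : G} : y ∈ C x ↔ Commute x y :=
  Subgroup.mem_centralizer_singleton_iff.trans ⟨Eq.symm, Eq.symm⟩

theorem self_mem_C (x : G) : x ∈ C x := mem_C.2 (Commute.refl x)

theorem solvable_ext (N : Subgroup G) [N.Normal] [Group.IsSolvable N] [Group.IsSolvable (G ⧸ N)] :
    Group.IsSolvable G :=
  Group.isSolvable_of_ker_le_range N.subtype (QuotientGroup.mk' N) (by simp)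

variable [Finite G]

theorem isSolvable_of_forall_normalPComplement
    (h : ∀ q : ℕ, q.Prime → q ≠ 2 → Cfsg.HasNormalPComplement q G) : Group.IsSolvable G := by
  classical
  -- a perfect term of the derived series
  obtain ⟨m, hm⟩ : ∃ m : ℕ, derivedSeries G (m + 1) = derivedSeries G m := by
    by_contra hne
    push Not at hne
    have key : ∀ k : ℕ, Nat.card (derivedSeries G k) + k ≤ Nat.card G := by
      intro k
      induction k with
      | zero => simp
      | succ k ih =>
        have h1 : derivedSeries G (k + 1) ≤ derivedSeries G k := derivedSeries_antitone G (Nat.le_succ k)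
        have h2 : Nat.card (derivedSeries G (k + 1)) < Nat.card (derivedSeries G k) := by
          refine lt_of_le_of_ne (Subgroup.card_le_of_le h1) fun e => hne k ?_
          exact Subgroup.eq_of_le_of_card_ge h1 e.ge
        omega
    have := key (Nat.card G + 1)
    omega
  set R := derivedSeries G m with hR
  have hperf : ⁅R, R⁆ = R := by
    rw [hR, ← derivedSeries_succ]; exact hm
  have h2 : ∀ q : ℕ, q.Prime → q ∣ Nat.card R → q = 2 := by
    intro q hq hqR
    by_contra hq2
    haveI := Fact.mk hq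
    obtain ⟨P, K, hK, hc⟩ := h q hq hq2
    haveI := hK
    have hRK : R ≤ K := by
      have hpg : IsPGroup q (G ⧸ K) :=
        P.2.of_equiv (hc.symm.QuotientMulEquiv.symm)
      haveI := hpg.isNilpotent
      obtain ⟨j, hj⟩ := (Group.isSolvable_def _).1 (inferInstance : Group.IsSolvable (G ⧸ K))
      have hmap : R.map (QuotientGroup.mk' K) = ⊥ := by
        have hstab : ∀ i, derivedSeries G (m + i) = R := by
          intro i
          induction i with
          | zero => rfl
          | succ i ih => rw [← Nat.add_assoc, derivedSeries_succ, ih, hperf]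
        rw [eq_bot_iff, ← hj, ← hstab j]
        refine le_trans (Subgroup.map_mono (derivedSeries_antitone G (Nat.le_add_left j m))) ?_
        exact map_derivedSeries_le_derivedSeries _ j
      rwa [Subgroup.map_eq_bot_iff, QuotientGroup.ker_mk'] at hmap
    obtain ⟨g, hg⟩ := exists_prime_orderOf_dvd_card' (G := R) q hqR
    have hgK : orderOf (g : G) ∣ Nat.card K := Subgroup.orderOf_dvd_natCard K (hRK g.2)
    rw [Subgroup.orderOf_coe, hg] at hgK
    have h1 : Nat.card K = (P : Subgroup G).index := hc.index_eq_card.symm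
    rw [h1] at hgK
    exact P.not_dvd_index hgK
  haveI : Fact (Nat.Prime 2) := ⟨Nat.prime_two⟩
  have hR2 : IsPGroup 2 R := by
    intro g
    refine ⟨(orderOf g).primeFactorsList.length, ?_⟩
    have hd : ∀ q : ℕ, q.Prime → q ∣ orderOf g → q = 2 := fun q hq hqg =>
      h2 q hq (hqg.trans (orderOf_dvd_natCard g))
    rw [← orderOf_dvd_iff_pow_eq_one]
    exact (Nat.eq_prime_pow_of_unique_prime_dvd (orderOf_pos g).ne'
      (fun {q} hq hqg => hd q hq hqg)).dvd
  haveI := hR2.isNilpotent
  obtain ⟨j, hj⟩ := (Group.isSolvable_def _).1 (inferInstance : Group.IsSolvable R)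
  refine (Group.isSolvable_def _).2 ⟨m + j, ?_⟩
  have hle : ∀ i, derivedSeries G (m + i) ≤ (derivedSeries R i).map R.subtype := by
    intro i
    induction i with
    | zero => rw [derivedSeries_zero, ← MonoidHom.range_eq_map, Subgroup.range_subtype]; rfl
    | succ i ih =>
      rw [← Nat.add_assoc, derivedSeries_succ, derivedSeries_succ, Subgroup.map_commutator]
      exact Subgroup.commutator_mono ih ih
  exact eq_bot_iff.2 ((hle j).trans (by rw [hj, Subgroup.map_bot]))

variable (h : ∀ g : G, g ∉ Subgroup.center G → IsCoatom (C g))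
include h

theorem eq_of_le {x y : G} (hx : x ∉ center G) (hy : y ∉ center G) (hle : C x ≤ C y) : C x = C y :=
  ((h x hx).le_iff.1 hle).resolve_left (h y hy).1 |>.symm

theorem C_pow {x : G} (hx : x ∉ center G) {k : ℕ} (hk : x ^ k ∉ center G) : C (x ^ k) = C x :=
  (eq_of_le h hx hk fun _ hz => mem_C.2 ((mem_C.1 hz).pow_left k)).symm

/-- An element commuting with the noncentral `a` and of coprime order is central in `C a`. -/
theorem mem_C_of_coprime {a b : G} (ha : a ∉ center G) (hb : Commute a b)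
    (hco : (orderOf a).Coprime (orderOf b)) {z : G} (hz : z ∈ C a) : Commute b z := by
  obtain ⟨k, l⟩ := Nat.chineseRemainder hco 1 0
  have hpa : (a * b) ^ k = a := by
    rw [hb.mul_pow, ← pow_mod_orderOf b k, show k % orderOf b = 0 from l.2, pow_zero, mul_one]
    conv_rhs => rw [← pow_one a]
    exact pow_eq_pow_iff_modEq.2 l.1
  have hab : a * b ∉ center G := fun hc => ha (hpa ▸ Subgroup.pow_mem _ hc k)
  have he : C (a * b) = C a := by
    refine eq_of_le h hab ha fun w hw => mem_C.2 ?_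
    exact hpa ▸ (mem_C.1 hw).pow_left k
  have h1 : Commute (a * b) z := mem_C.1 (he.symm ▸ hz)
  have h2 : Commute (a⁻¹ * (a * b)) z := (mem_C.1 hz).inv_left.mul_left h1
  rwa [inv_mul_cancel_left] at h2

/-- A noncentral element has a noncentral power of prime power order with the same centralizer. -/
theorem exists_prime_pow {g : G} (hg : g ∉ center G) :
    ∃ (q : ℕ) (x : G), q.Prime ∧ (∃ k, orderOf x = q ^ k) ∧ x ∉ center G ∧ C x = C g := by
  suffices key : ∀ n : ℕ, ∀ g : G, g ∉ center G → orderOf g = n →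
      ∃ (q : ℕ) (x : G), q.Prime ∧ (∃ k, orderOf x = q ^ k) ∧ x ∉ center G ∧ C x = C g from
    key _ g hg rfl
  intro n
  induction n using Nat.strong_induction_on with
  | _ n ih =>
    intro g hg hn
    by_cases hpp : IsPrimePow n
    · obtain ⟨q, k, hq, -, hqk⟩ := (isPrimePow_nat_iff n).1 hpp
      exact ⟨q, g, hq, ⟨k, hn.trans hqk.symm⟩, hg, rfl⟩
    have hn0 : 0 < n := hn ▸ orderOf_pos g
    have hn1 : n ≠ 1 := fun e => hg (by
      rw [orderOf_eq_one_iff.1 (hn.trans e)]; exact one_mem _)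
    set p := n.minFac with hp
    have hpp' : p.Prime := Nat.minFac_prime hn1
    set a := p ^ n.factorization p with ha
    set b := n / a with hb
    have hab : a * b = n := Nat.ordProj_mul_ordCompl_eq_self n p
    have hco : a.Coprime b := (Nat.coprime_ordCompl hpp' hn0.ne').pow_left _
    have ha1 : 1 < a := Nat.one_lt_pow
      (Nat.pos_iff_ne_zero.1 (hpp'.factorization_pos_of_dvd hn0.ne' (Nat.minFac_dvd n))) hpp'.one_lt
    have hb1 : 1 < b := by
      rcases Nat.lt_or_ge 1 b with h1 | h1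
      · exact h1
      · exfalso
        have hb0 : b ≠ 0 := fun e => by
          rw [e, mul_zero] at hab
          exact hn0.ne hab
        have : b = 1 := le_antisymm h1 (Nat.pos_of_ne_zero hb0)
        rw [this, mul_one] at hab
        exact hpp ((isPrimePow_nat_iff n).2 ⟨p, _, hpp',
          hpp'.factorization_pos_of_dvd hn0.ne' (Nat.minFac_dvd n), hab⟩)
    by_cases hga : g ^ a ∈ center G
    · have hgb : g ^ b ∉ center G := by
        intro hgb
        apply hg
        have hj : g = (g ^ a) ^ (a.gcdA b) * (g ^ b) ^ (a.gcdB b) := by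
          rw [← zpow_natCast g a, ← zpow_natCast g b, ← zpow_mul, ← zpow_mul, ← zpow_add,
            ← Nat.gcd_eq_gcd_ab, hco.gcd_eq_one, Nat.cast_one, zpow_one]
        rw [hj]
        exact mul_mem (zpow_mem hga _) (zpow_mem hgb _)
      have ho : orderOf (g ^ b) = a := by
        rw [orderOf_pow, hn, ← hab, Nat.gcd_mul_left_left, Nat.mul_div_cancel _ (by omega)]
      obtain ⟨q, x, hq, hk, hx, hC⟩ := ih a (hab ▸ (lt_mul_iff_one_lt_right (by omega)).2 hb1) _ hgb ho
      exact ⟨q, x, hq, hk, hx, hC.trans (C_pow h hg hgb)⟩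
    · have ho : orderOf (g ^ a) = b := by
        rw [orderOf_pow, hn, ← hab, Nat.gcd_mul_right_left, Nat.mul_div_cancel_left _ (by omega)]
      obtain ⟨q, x, hq, hk, hx, hC⟩ :=
        ih b (hab ▸ (lt_mul_iff_one_lt_left (by omega)).2 ha1) _ hga ho
      exact ⟨q, x, hq, hk, hx, hC.trans (C_pow h hg hga)⟩

theorem isNilpotent_C {g : G} (hg : g ∉ center G) : Group.IsNilpotent (C g) := by
  obtain ⟨q, x, hq, ⟨k, hk⟩, hx, hC⟩ := exists_prime_pow h hg
  haveI := Fact.mk hq
  rw [← hC]
  have hp : IsPGroup q (C x ⧸ center (C x)) := by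
    intro z
    obtain ⟨m, rfl⟩ := QuotientGroup.mk_surjective z
    refine ⟨(orderOf m).factorization q, ?_⟩
    rw [← QuotientGroup.mk_pow, QuotientGroup.eq_one_iff, Subgroup.mem_center_iff]
    intro w
    refine Subtype.ext ?_
    have hco : (orderOf x).Coprime (orderOf ((m : G) ^ q ^ (orderOf m).factorization q)) := by
      rw [hk, orderOf_pow' _ (pow_ne_zero _ hq.ne_zero), Subgroup.orderOf_coe,
        Nat.gcd_eq_right (Nat.ordProj_dvd (orderOf m) q)]
      exact (Nat.coprime_ordCompl hq (orderOf_pos m).ne').pow_left k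
    have hcm : Commute x ((m : G) ^ q ^ (orderOf m).factorization q) := (mem_C.1 m.2).pow_right _
    exact (mem_C_of_coprime h hx hcm hco w.2).eq.symm
  exact Group.of_quotient_center_nilpotent hp.isNilpotent

theorem isSolvable_of_normal {g : G} (hg : g ∉ center G) (hn : (C g).Normal) :
    Group.IsSolvable G := by
  haveI := hn
  haveI := isNilpotent_C h hg
  obtain ⟨a, -, ha⟩ := SetLike.exists_of_lt (lt_top_iff_ne_top.2 (h g hg).1)
  have hs : C g ⊔ zpowers a = ⊤ := ((h g hg).le_iff.1 le_sup_left).resolve_right fun e =>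
    ha (e ▸ (mem_sup_right (mem_zpowers a) : a ∈ C g ⊔ zpowers a))
  have hq : ∀ z : G ⧸ C g, z ∈ zpowers (QuotientGroup.mk' (C g) a) := by
    intro z
    obtain ⟨w, rfl⟩ := QuotientGroup.mk'_surjective (C g) z
    have hw : QuotientGroup.mk' (C g) w ∈ (C g ⊔ zpowers a).map (QuotientGroup.mk' (C g)) :=
      mem_map_of_mem _ (hs ▸ mem_top w)
    rwa [Subgroup.map_sup, QuotientGroup.map_mk'_self, bot_sup_eq, MonoidHom.map_zpowers] at hw
  haveI : IsCyclic (G ⧸ C g) := ⟨⟨_, hq⟩⟩
  haveI : Group.IsSolvable (G ⧸ C g) := by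
    refine Group.isSolvable_of_comm (G := G ⧸ C g) fun a b => ?_
    exact IsMulCommutative.is_comm.comm a b
  exact solvable_ext (C g)

theorem exists_sylow_of_normalizer {q : ℕ} [Fact q.Prime] {x : G}
    (hx : x ∉ center G) {S : Subgroup G}
    (hS : IsPGroup q S) (hmax : ∀ y ∈ C x, (∃ k, y ^ q ^ k = 1) → y ∈ S)
    (hN : C x ≤ normalizer (S : Set G)) :
    S.Normal ∨ ((∃ P : Sylow q G, (P : Subgroup G) = S) ∧ normalizer (S : Set G) = C x) := by
  rcases (h x hx).le_iff.1 hN with e | e
  · exact Or.inl (normalizer_eq_top_iff.1 e)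
  · refine Or.inr ⟨CfsgLib.ExtPrim.exists_sylow_eq hS fun g hg hgq => hmax g (e ▸ hg) hgq, e⟩

theorem conj_C_eq {x : G} (hx : x ∉ center G) (hab : IsMulCommutative (C x))
    (hn : ∀ m : G, m * x * m⁻¹ ∈ C x) : (C x).Normal := by
  refine ⟨fun y hy m => ?_⟩
  have hm : m * x * m⁻¹ ∉ center G := fun hc => hx (by
    have := (inferInstance : (center G).Normal).conj_mem _ hc m⁻¹
    simpa [mul_assoc] using this)
  have he : C x = C (m * x * m⁻¹) := by
    refine eq_of_le h hx hm fun w hw => mem_C.2 ?_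
    exact congrArg Subtype.val (hab.is_comm.comm ⟨_, hn m⟩ ⟨w, hw⟩)
  rw [he]
  exact mem_C.2 ((mem_C.1 hy).map (MulAut.conj m).toMonoidHom)

variable (hnn : ∀ g : G, g ∉ center G → ¬ (C g).Normal)
include hnn

theorem abelian_case {q : ℕ} [Fact q.Prime] {x : G} (hx : x ∉ center G)
    (hxq : ∃ k, orderOf x = q ^ k) (hab : IsMulCommutative (C x)) :
    Cfsg.HasNormalPComplement q G := by
  haveI := hab
  obtain ⟨R⟩ : Nonempty (Sylow q (C x)) := inferInstance
  set S := (R : Subgroup (C x)).map (C x).subtype with hSdef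
  have hSM : S ≤ C x := Subgroup.map_subtype_le _
  have hS : IsPGroup q S := R.2.map _
  have hmax : ∀ y ∈ C x, (∃ k, y ^ q ^ k = 1) → y ∈ S := by
    intro y hy ⟨k, hk⟩
    haveI : (R : Subgroup (C x)).Normal := Subgroup.normal_of_isMulCommutative _
    haveI := Sylow.unique_of_normal R inferInstance
    have hp : IsPGroup q (zpowers (⟨y, hy⟩ : C x)) :=
      IsPGroup.of_card_dvd_pow (n := k) (by
        rw [Nat.card_zpowers]
        exact orderOf_dvd_of_pow_eq_one (Subtype.ext hk))
    obtain ⟨R', hR'⟩ := hp.exists_le_sylow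
    rw [Subsingleton.elim R' R] at hR'
    exact ⟨_, hR' (mem_zpowers _), rfl⟩
  have hcomm : ∀ m ∈ C x, ∀ s ∈ C x, m * s = s * m := fun m hm s hs =>
    congrArg Subtype.val (hab.is_comm.comm ⟨m, hm⟩ ⟨s, hs⟩)
  have hN : C x ≤ normalizer (S : Set G) :=
    le_trans (fun m hm => Subgroup.mem_centralizer_iff.2 fun s hs => (hcomm m hm s (hSM hs)).symm)
      (Subgroup.centralizer_le_normalizer _)
  rcases exists_sylow_of_normalizer h hx hS hmax hN with hn | ⟨⟨P, hP⟩, hNe⟩
  · refine absurd (conj_C_eq h hx hab fun m => hSM (hn.conj_mem x (hmax x (self_mem_C x) ?_) m))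
      (hnn x hx)
    obtain ⟨k, hk⟩ := hxq
    exact ⟨k, hk ▸ pow_orderOf_eq_one x⟩
  · refine TransferBasic.hasNormalPComplement_of_le_centralizer P ?_
    rw [hP, hNe]
    exact fun m hm => Subgroup.mem_centralizer_iff.2 fun s hs => (hcomm m hm s (hSM hs)).symm

/-- The structure of a nonabelian centralizer of a noncentral `q`-element. -/
theorem nonabelian_case {q : ℕ} [Fact q.Prime] {x : G} (hx : x ∉ center G)
    (hxq : ∃ k, orderOf x = q ^ k) (hab : ¬ IsMulCommutative (C x)) :
    ∃ P : Sylow q G, normalizer ((P : Subgroup G) : Set G) = C x ∧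
      (∀ y ∈ C x, (∃ k, y ^ q ^ k = 1) → y ∈ (P : Subgroup G)) ∧
      (∀ y ∈ C x, (orderOf y).Coprime q → y ∈ center G) := by
  obtain ⟨e, he⟩ := hxq
  have hco : ∀ {y : G}, (orderOf y).Coprime q → (orderOf x).Coprime (orderOf y) := fun hy =>
    he ▸ (hy.symm.pow_left e)
  have hcenC : ∀ y ∈ C x, (orderOf y).Coprime q → ∀ w ∈ C x, Commute y w := fun y hy hyq w hw =>
    mem_C_of_coprime h hx (mem_C.1 hy) (hco hyq) hw
  -- decomposition into the two parts
  have hdec : ∀ y ∈ C x, ∃ u v : G, y = u * v ∧ u ∈ C x ∧ v ∈ C x ∧ (∃ k, u ^ q ^ k = 1) ∧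
      (orderOf v).Coprime q := by
    intro y hy
    set a := q ^ (orderOf y).factorization q with ha
    set b := orderOf y / a with hb
    have hcop : a.Coprime b :=
      (Nat.coprime_ordCompl Fact.out (orderOf_pos y).ne').pow_left _
    refine ⟨(y ^ b) ^ (b.gcdA a), (y ^ a) ^ (b.gcdB a), ?_, zpow_mem (pow_mem hy _) _,
      zpow_mem (pow_mem hy _) _, ⟨(orderOf y).factorization q, ?_⟩, ?_⟩
    · rw [← zpow_natCast y a, ← zpow_natCast y b, ← zpow_mul, ← zpow_mul, ← zpow_add,
        ← Nat.gcd_eq_gcd_ab, hcop.symm.gcd_eq_one, Nat.cast_one, zpow_one]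
    · rw [← ha, ← zpow_natCast, ← zpow_mul, mul_comm, zpow_mul, zpow_natCast, ← pow_mul,
        Nat.mul_comm, Nat.ordProj_mul_ordCompl_eq_self, pow_orderOf_eq_one, one_zpow]
    · refine Nat.Coprime.coprime_dvd_left ?_ (Nat.coprime_ordCompl Fact.out (orderOf_pos y).ne').symm
      refine orderOf_dvd_of_pow_eq_one ?_
      rw [← zpow_natCast, ← zpow_mul, mul_comm, zpow_mul, zpow_natCast, ← pow_mul,
        Nat.ordProj_mul_ordCompl_eq_self, pow_orderOf_eq_one, one_zpow]
  have hcentral : ∀ y ∈ C x, (orderOf y).Coprime q → y ∈ center G := by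
    intro y hy hyq
    by_contra hyc
    apply hab
    have hCy : C x = C y := eq_of_le h hx hyc fun w hw => mem_C.2 (hcenC y hy hyq w hw)
    refine ⟨⟨fun a b => Subtype.ext ?_⟩⟩
    obtain ⟨u, v, hb', hu, hv, ⟨k, hk⟩, hvq⟩ := hdec b b.2
    show (a : G) * b = b * a
    have h1 : Commute (a : G) u := (mem_C_of_coprime h hyc (mem_C.1 (hCy ▸ hu))
      ((Nat.Coprime.pow_right k hyq).coprime_dvd_right (orderOf_dvd_of_pow_eq_one hk))
      (hCy ▸ a.2)).symm
    rw [hb']
    exact (h1.mul_right (hcenC v hv hvq a a.2).symm).eq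
  haveI := isNilpotent_C h hx
  obtain ⟨R⟩ : Nonempty (Sylow q (C x)) := inferInstance
  have hRn : (R : Subgroup (C x)).Normal :=
    inferInstance
  haveI := hRn
  haveI := Sylow.unique_of_normal R hRn
  set S := (R : Subgroup (C x)).map (C x).subtype with hSdef
  have hSM : S ≤ C x := Subgroup.map_subtype_le _
  have hS : IsPGroup q S := R.2.map _
  have hmax : ∀ y ∈ C x, (∃ k, y ^ q ^ k = 1) → y ∈ S := by
    intro y hy ⟨k, hk⟩
    have hp : IsPGroup q (zpowers (⟨y, hy⟩ : C x)) :=
      IsPGroup.of_card_dvd_pow (n := k) (by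
        rw [Nat.card_zpowers]
        exact orderOf_dvd_of_pow_eq_one (Subtype.ext hk))
    obtain ⟨R', hR'⟩ := hp.exists_le_sylow
    rw [Subsingleton.elim R' R] at hR'
    exact ⟨_, hR' (mem_zpowers _), rfl⟩
  have hN : C x ≤ normalizer (S : Set G) := by
    intro m hm
    rw [Subgroup.mem_normalizer_iff]
    intro s
    constructor
    · rintro ⟨r, hr, rfl⟩
      exact ⟨_, hRn.conj_mem r hr ⟨m, hm⟩, rfl⟩
    · rintro ⟨r, hr, hrs⟩
      refine ⟨_, hRn.conj_mem r hr (⟨m, hm⟩⁻¹), ?_⟩
      simp only [Subgroup.subtype_apply] at hrs ⊢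
      push_cast
      rw [hrs]
      group
  rcases exists_sylow_of_normalizer h hx hS hmax hN with hn | ⟨⟨P, hP⟩, hNe⟩
  · exfalso
    haveI := hn
    refine hnn x hx ?_
    have hsup : C x = S ⊔ center G := by
      refine le_antisymm (fun y hy => ?_) (sup_le hSM (Subgroup.center_le_centralizer _))
      obtain ⟨u, v, rfl, hu, hv, hk, hvq⟩ := hdec y hy
      exact mul_mem (mem_sup_left (hmax u hu hk)) (mem_sup_right (hcentral v hv hvq))
    rw [hsup]
    infer_instance
  · exact ⟨P, hP ▸ hNe, fun y hy hk => hP ▸ hmax y hy hk, hcentral⟩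

theorem pCore_le_center {q : ℕ} [Fact q.Prime]
    (hB : ∀ x : G, x ∉ center G → (∃ k, orderOf x = q ^ k) → ¬ IsMulCommutative (C x))
    (hex : ∃ x : G, x ∉ center G ∧ ∃ k, orderOf x = q ^ k) : Cfsg.pCore q G ≤ center G := by
  intro y hy
  by_contra hyc
  set N := Cfsg.pCore q G
  have hNp : IsPGroup q N := (Solvable.isPGroup_pCore q)
  have hord : ∀ {z : G}, z ∈ N → ∃ k, orderOf z = q ^ k := fun {z} hz => by
    obtain ⟨k, hk⟩ := (IsPGroup.iff_orderOf.1 hNp) ⟨z, hz⟩
    exact ⟨k, by rw [← hk, ← Subgroup.orderOf_coe]⟩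
  have hcN : ∀ x : G, x ∉ center G → (∃ k, orderOf x = q ^ k) → ∀ w ∈ N, Commute x w := by
    intro x hx hxq w hw
    obtain ⟨P, hP, -, -⟩ := nonabelian_case h hnn hx hxq (hB x hx hxq)
    have hNP : N ≤ (P : Subgroup G) := hNp.le_sylow_of_normal P
    exact mem_C.1 (hP ▸ le_normalizer (hNP hw))
  obtain ⟨P₀, -, hmem, -⟩ := nonabelian_case h hnn hyc (hord hy) (hB y hyc (hord hy))
  -- noncentral `q`-elements lie in `N`
  have hinN : ∀ x : G, x ∉ center G → (∃ k, orderOf x = q ^ k) → x ∈ N := by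
    intro x hx hxq
    obtain ⟨k, hk⟩ := hxq
    set K := Subgroup.centralizer (N : Set G)
    have hKC : K ≤ C y := fun z hz => mem_C.2 (Subgroup.mem_centralizer_iff.1 hz y hy)
    let T : Subgroup G := K ⊓ (P₀ : Subgroup G)
    have hTn : T.Normal := ⟨fun t ht m => by
      have h1 : m * t * m⁻¹ ∈ K := (inferInstance : K.Normal).conj_mem t ht.1 m
      refine ⟨h1, hmem _ (hKC h1) ?_⟩
      obtain ⟨j, hj⟩ := P₀.2 ⟨t, ht.2⟩
      exact ⟨j, by rw [conj_pow, show t ^ q ^ j = 1 from congrArg Subtype.val hj]; group⟩⟩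
    have hxK : x ∈ K := Subgroup.mem_centralizer_iff.2 fun w hw => (hcN x hx ⟨k, hk⟩ w hw).symm.eq
    exact Solvable.le_pCore q hTn (P₀.2.to_le inf_le_right)
      ⟨hxK, hmem x (hKC hxK) ⟨k, hk ▸ pow_orderOf_eq_one x⟩⟩
  obtain ⟨x, hx, hxq⟩ := hex
  apply hB x hx hxq
  obtain ⟨P, hP, hmemP, hcent⟩ := nonabelian_case h hnn hx hxq (hB x hx hxq)
  haveI := isNilpotent_C h hx
  refine ⟨⟨fun a b => Subtype.ext ?_⟩⟩
  show (a : G) * b = b * a
  -- every element of `C x` is a product of a `q`-element and a central element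
  have hall : ∀ w ∈ C x, ∃ u v : G, w = u * v ∧ (u ∈ center G ∨ (u ∈ N ∧ u ∉ center G)) ∧ v ∈ center G := by
    intro w hw
    set m := q ^ (orderOf w).factorization q with hm
    set n := orderOf w / m with hn
    have hcop : m.Coprime n := (Nat.coprime_ordCompl Fact.out (orderOf_pos w).ne').pow_left _
    refine ⟨(w ^ n) ^ (n.gcdA m), (w ^ m) ^ (n.gcdB m), ?_, ?_, zpow_mem (hcent _ (pow_mem hw _) ?_) _⟩
    · rw [← zpow_natCast w m, ← zpow_natCast w n, ← zpow_mul, ← zpow_mul, ← zpow_add,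
        ← Nat.gcd_eq_gcd_ab, hcop.symm.gcd_eq_one, Nat.cast_one, zpow_one]
    · by_cases hu : (w ^ n) ^ (n.gcdA m) ∈ center G
      · exact Or.inl hu
      · refine Or.inr ⟨hinN _ hu ?_, hu⟩
        have hone : ((w ^ n) ^ (n.gcdA m)) ^ q ^ (orderOf w).factorization q = 1 := by
          rw [← hm, ← zpow_natCast, ← zpow_mul, mul_comm, zpow_mul, zpow_natCast, ← pow_mul,
            Nat.mul_comm, Nat.ordProj_mul_ordCompl_eq_self, pow_orderOf_eq_one, one_zpow]
        obtain ⟨j, -, hj⟩ := (Nat.dvd_prime_pow Fact.out).1 (orderOf_dvd_of_pow_eq_one hone)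
        exact ⟨j, hj⟩
    · refine Nat.Coprime.coprime_dvd_left ?_ (Nat.coprime_ordCompl Fact.out (orderOf_pos w).ne').symm
      refine orderOf_dvd_of_pow_eq_one ?_
      rw [← pow_mul, Nat.ordProj_mul_ordCompl_eq_self, pow_orderOf_eq_one]
  obtain ⟨u, v, ha, hu, hv⟩ := hall a a.2
  obtain ⟨u', v', hb, hu', hv'⟩ := hall b b.2
  have hcz : ∀ {z : G}, z ∈ center G → ∀ w, Commute z w := fun hz w =>
    (Subgroup.mem_center_iff.1 hz w).symm
  have huu : Commute u u' := by
    rcases hu with hu | ⟨huN, huc⟩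
    · exact hcz hu u'
    · rcases hu' with hu' | ⟨huN', -⟩
      · exact (hcz hu' u).symm
      · exact hcN u huc (hord huN) u' huN'
  rw [ha, hb]
  exact ((huu.mul_right (hcz hv' u).symm).mul_left ((hcz hv u').mul_right (hcz hv v'))).eq

theorem isSolvable_of_odd_nonabelian {q : ℕ} [Fact q.Prime] (hq : q ≠ 2)
    (hB : ∀ x : G, x ∉ center G → (∃ k, orderOf x = q ^ k) → ¬ IsMulCommutative (C x))
    {x : G} (hx : x ∉ center G) (hxq : ∃ k, orderOf x = q ^ k) (hxc : x ^ q ∈ center G) :
    Group.IsSolvable G := by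
  have hq' : q.Prime := Fact.out
  obtain ⟨e, he⟩ := hxq
  have hcore := pCore_le_center h hnn hB ⟨x, hx, e, he⟩
  obtain ⟨P, hP, hmem, hcent⟩ := nonabelian_case h hnn hx ⟨e, he⟩ (hB x hx ⟨e, he⟩)
  have hPC : (P : Subgroup G) ≤ C x := hP ▸ le_normalizer
  have hxP : x ∈ (P : Subgroup G) := hmem x (self_mem_C x) ⟨e, he ▸ pow_orderOf_eq_one x⟩
  set Z := Cfsg.centerThompsonAOf (P : Subgroup G) with hZ
  have hxZ : x ∈ Z := by
    rw [hZ, Fusion.centerThompsonAOf_eq]
    refine ⟨⟨x, hxP⟩, Fusion.center_le_centerThompsonA (Subgroup.mem_center_iff.2 fun w => ?_), rfl⟩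
    exact Subtype.ext (mem_C.1 (hPC w.2)).symm.eq
  have hN : C x ≤ normalizer (Z : Set G) := by
    intro m hm
    have hmP : (P : Subgroup G).map (MulAut.conj m).toMonoidHom = (P : Subgroup G) :=
      Functor.mem_normalizer_iff_cj.mp (hP.symm ▸ hm)
    have := ZJ.centerThompsonAOf_map (MulAut.conj m).toMonoidHom (P : Subgroup G)
      fun w _ hw => (MulAut.conj m).injective (hw.trans (map_one _).symm)
    rw [hmP] at this
    exact Functor.mem_normalizer_iff_cj.mpr this.symm
  have hne : normalizer (Z : Set G) = C x := by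
    rcases (h x hx).le_iff.1 hN with e' | e'
    · exfalso
      haveI : Z.Normal := normalizer_eq_top_iff.1 e'
      have hZP : Z ≤ (P : Subgroup G) := inf_le_left.trans (Subgroup.map_subtype_le _)
      exact hx (hcore (Solvable.le_pCore q inferInstance (P.2.to_le hZP) hxZ))
    · exact e'
  obtain ⟨P', K, hK, hc⟩ : Cfsg.HasNormalPComplement q G := by
    refine FGSA.GT.hasNormalPComplement hq P ?_
    rw [← hZ, hne]
    haveI := isNilpotent_C h hx
    exact FGSA.GT.npc_of_isNilpotent
  haveI := hK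
  have hKq : (Nat.card K).Coprime q := by
    rw [← hc.index_eq_card]
    exact (hq'.coprime_iff_not_dvd.2 P'.not_dvd_index).symm
  -- `x` acts without fixed points on `K` modulo the centre
  let c : MulAut K := MulAut.conjNormal x
  set W := (center G).subgroupOf K
  have hW : W.map c.toMonoidHom = W := by
    refine ThompsonNil.map_eq_of_mem c fun w hw => ?_
    rw [Subgroup.mem_subgroupOf] at hw ⊢
    rw [MulAut.conjNormal_apply]
    exact (inferInstance : (center G).Normal).conj_mem _ hw x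
  let d : MulAut (K ⧸ W) := QuotientGroup.congr W W c hW
  have hd : ∀ (n : ℕ) (k : K), (d ^ n) (k : K ⧸ W) = ((c ^ n) k : K) := by
    intro n
    induction n with
    | zero => intro k; simp
    | succ n ih =>
      intro k
      rw [pow_succ, MulAut.mul_apply, pow_succ, MulAut.mul_apply, ← ih]
      rfl
  have hdq : d ^ q = 1 := by
    refine MulEquiv.ext fun z => ?_
    obtain ⟨k, rfl⟩ := QuotientGroup.mk_surjective z
    rw [hd, ← map_pow, MulAut.one_apply]
    congr 1
    refine Subtype.ext ?_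
    rw [MulAut.conjNormal_apply, ← Subgroup.mem_center_iff.1 hxc (k : G), mul_inv_cancel_right]
  have hfpf : ∀ z, d z = z → z = 1 := by
    intro z hz
    obtain ⟨k, rfl⟩ := QuotientGroup.mk_surjective z
    rw [QuotientGroup.eq_one_iff, Subgroup.mem_subgroupOf]
    have h1 : ((k : K)⁻¹ * c k) ∈ W := QuotientGroup.eq.1 hz.symm
    rw [Subgroup.mem_subgroupOf, Subgroup.coe_mul, Subgroup.coe_inv, MulAut.conjNormal_apply] at h1
    set w := (k : G)⁻¹ * (x * k * x⁻¹) with hw
    have hwc : ∀ u, Commute w u := fun u => (Subgroup.mem_center_iff.1 h1 u).symm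
    have hxk : x * k * x⁻¹ = k * w := by rw [hw]; group
    have hit : ∀ n : ℕ, x ^ n * k * (x ^ n)⁻¹ = k * w ^ n := by
      intro n
      induction n with
      | zero => simp
      | succ n ih =>
        calc x ^ (n + 1) * k * (x ^ (n + 1))⁻¹ = x * (x ^ n * k * (x ^ n)⁻¹) * x⁻¹ := by
              rw [pow_succ']; group
          _ = (x * k * x⁻¹) * (x * w ^ n * x⁻¹) := by rw [ih]; group
          _ = k * w * w ^ n := by
              rw [hxk, ← ((hwc x).pow_left n).eq, mul_inv_cancel_right]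
          _ = k * w ^ (n + 1) := by rw [mul_assoc, ← pow_succ']
    have hwq : w ^ q = 1 := by
      have h2 := hit q
      rw [← Subgroup.mem_center_iff.1 hxc (k : G), mul_inv_cancel_right] at h2
      exact mul_left_cancel (h2.symm.trans (mul_one _).symm)
    have hwK : orderOf w ∣ Nat.card K :=
      Subgroup.orderOf_dvd_natCard K (mul_mem (inv_mem k.2) (hK.conj_mem _ k.2 x))
    have hw1 : w = 1 := orderOf_eq_one_iff.1
      (Nat.eq_one_of_dvd_coprimes hKq hwK (orderOf_dvd_of_pow_eq_one hwq))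
    rw [hw1, mul_one] at hxk
    exact hcent _ (mem_C.2 (mul_inv_eq_iff_eq_mul.1 hxk))
      (hKq.coprime_dvd_left (Subgroup.orderOf_dvd_natCard K k.2))
  haveI : Group.IsNilpotent (K ⧸ W) := ThompsonNil.isNilpotent hq' d hdq hfpf
  haveI : Group.IsNilpotent K := by
    refine Subgroup.isNilpotent_of_ker_le_center (QuotientGroup.mk' W) ?_
    rw [QuotientGroup.ker_mk']
    intro w hw
    rw [Subgroup.mem_subgroupOf] at hw
    exact Subgroup.mem_center_iff.2 fun u => Subtype.ext (Subgroup.mem_center_iff.1 hw u)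
  have hpg : IsPGroup q (G ⧸ K) := P'.2.of_equiv (hc.symm.QuotientMulEquiv.symm)
  haveI := hpg.isNilpotent
  exact solvable_ext K

omit h hnn

theorem exists_pow_mem {q : ℕ} [Fact q.Prime] :
    ∀ (k : ℕ) (x : G), x ∉ center G → orderOf x = q ^ k →
      ∃ y : G, y ∉ center G ∧ (∃ j, orderOf y = q ^ j) ∧ y ^ q ∈ center G := by
  intro k
  induction k with
  | zero =>
    intro x hx hk
    exact absurd (by rw [orderOf_eq_one_iff.1 (hk.trans (pow_zero q))]; exact one_mem _) hx
  | succ k ih =>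
    intro x hx hk
    by_cases hc : x ^ q ∈ center G
    · exact ⟨x, hx, ⟨k + 1, hk⟩, hc⟩
    · refine ih (x ^ q) hc ?_
      rw [orderOf_pow' _ (Fact.out : q.Prime).ne_zero, hk,
        Nat.gcd_eq_right (dvd_pow_self q (Nat.succ_ne_zero k)), pow_succ,
        Nat.mul_div_cancel _ (Fact.out : q.Prime).pos]

theorem isSolvable (h : ∀ g : G, g ∉ Subgroup.center G → IsCoatom (C g)) : Group.IsSolvable G := by
  by_cases hn : ∃ g : G, g ∉ center G ∧ (C g).Normal
  · obtain ⟨g, hg, hgn⟩ := hn
    exact isSolvable_of_normal h hg hgn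
  push Not at hn
  by_cases hodd : ∀ q : ℕ, q.Prime → q ≠ 2 → Cfsg.HasNormalPComplement q G
  · exact isSolvable_of_forall_normalPComplement hodd
  push Not at hodd
  obtain ⟨q, hq, hq2, hno⟩ := hodd
  haveI := Fact.mk hq
  have hB : ∀ x : G, x ∉ center G → (∃ k, orderOf x = q ^ k) → ¬ IsMulCommutative (C x) :=
    fun x hx hxq hab => hno (abelian_case h hn hx hxq hab)
  obtain ⟨P⟩ : Nonempty (Sylow q G) := inferInstance
  obtain ⟨x, hxP, hx⟩ : ∃ x ∈ (P : Subgroup G), x ∉ center G := by
    by_contra hall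
    push Not at hall
    refine hno (TransferBasic.hasNormalPComplement_of_le_centralizer P fun m _ =>
      Subgroup.mem_centralizer_iff.2 fun s hs => (Subgroup.mem_center_iff.1 (hall s hs) m).symm)
  obtain ⟨k, hk⟩ := (IsPGroup.iff_orderOf.1 P.2) ⟨x, hxP⟩
  obtain ⟨y, hy, hyq, hyc⟩ := exists_pow_mem k x hx (by rw [← hk, ← Subgroup.orderOf_coe])
  exact isSolvable_of_odd_nonabelian h hn hq2 hB hy hyq hyc

end CfsgLib.CentMax
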