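import Cfsg.Agent.CentMax.SylowFpf
import Cfsg.Agent.ExtPrim.Centralizers

/-!
A normal subgroup in which every noncentral element has a maximal centralizer in the whole group.
-/

set_option autoImplicit false
set_option linter.style.haveILetI false
set_option linter.unusedSectionVars false

open scoped Pointwise

namespace CfsgLib.CentMax

open Subgroup

universe u

section Partition

variable {X : Type u} [Group X] [Finite X]

/-- A partition into normal abelian proper subgroups forces an elementary abelian group. -/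
theorem elementary_of_normal_partition [Nontrivial X] {F : Subgroup X → Prop}
    (hab : ∀ H, F H → IsMulCommutative H) (hne : ∀ H, F H → H ≠ ⊤)
    (hcov : ∀ x : X, x ≠ 1 → ∃ H, F H ∧ x ∈ H)
    (hti : ∀ H K, F H → F K → H ≠ K → H ⊓ K = ⊥) (hn : ∀ H, F H → H.Normal) :
    ∃ p : ℕ, p.Prime ∧ Cfsg.IsElementaryAbelian p (⊤ : Subgroup X) := by
  classical
  have huniq : ∀ {H K : Subgroup X} {x : X}, F H → F K → x ≠ 1 → x ∈ H → x ∈ K → H = K := by
    intro H K x hH hK hx hxH hxK
    by_contra hne'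
    exact hx (Subgroup.mem_bot.1 (hti H K hH hK hne' ▸ Subgroup.mem_inf.2 ⟨hxH, hxK⟩))
  have hout : ∀ {H : Subgroup X}, F H → ∀ a ∈ H, ∀ k ∉ H, Commute a k := by
    intro H hH a ha k hk
    have hk1 : k ≠ 1 := fun e => hk (e ▸ one_mem _)
    obtain ⟨K, hK, hkK⟩ := hcov k hk1
    exact Subgroup.commute_of_normal_of_disjoint H K (hn H hH) (hn K hK)
      (disjoint_iff.2 (hti H K hH hK fun e => hk (e ▸ hkK))) a k ha hkK
  have hcomm : ∀ a b : X, Commute a b := by
    intro a b
    by_cases ha : a = 1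
    · rw [ha]; exact Commute.one_left b
    obtain ⟨H, hH, haH⟩ := hcov a ha
    by_cases hb : b ∈ H
    · haveI := hab H hH
      exact congrArg Subtype.val (mul_comm' (⟨a, haH⟩ : H) ⟨b, hb⟩)
    · exact hout hH a haH b hb
  have hdvd : ∀ {H : Subgroup X} {x y : X}, F H → x ≠ 1 → x ∈ H → y ∉ H →
      orderOf y ∣ orderOf x := by
    intro H x y hH hx hxH hyH
    have hy : y ≠ 1 := fun e => hyH (e ▸ one_mem _)
    obtain ⟨K, hK, hyK⟩ := hcov y hy
    have hxy : x * y ∉ H := fun e => hyH (by simpa using mul_mem (inv_mem hxH) e)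
    obtain ⟨L, hL, hxyL⟩ := hcov (x * y) fun e => hxy (e ▸ one_mem _)
    refine orderOf_dvd_of_pow_eq_one ?_
    by_contra hp
    have hpow : (x * y) ^ orderOf x = y ^ orderOf x := by
      rw [(hcomm x y).mul_pow, pow_orderOf_eq_one, one_mul]
    have hLK : L = K := huniq hL hK hp (hpow ▸ pow_mem hxyL _) (pow_mem hyK _)
    have hxK : x ∈ K := by
      have h1 := mul_mem (hLK ▸ hxyL) (inv_mem hyK)
      rwa [mul_inv_cancel_right] at h1
    exact hyH (huniq hK hH hx hxK hxH ▸ hyK)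
  obtain ⟨p, hp, hpd⟩ := Nat.exists_prime_and_dvd (n := Nat.card X) Finite.one_lt_card.ne'
  haveI := Fact.mk hp
  obtain ⟨z, hz⟩ := exists_prime_orderOf_dvd_card' p hpd
  have hz1 : z ≠ 1 := fun e => hp.ne_one (by rw [← hz, e, orderOf_one])
  obtain ⟨H, hH, hzH⟩ := hcov z hz1
  have key : ∀ y : X, y ∉ H → orderOf y = p := fun y hy =>
    ((Nat.dvd_prime hp).1 (hz ▸ hdvd hH hz1 hzH hy)).resolve_left fun e =>
      hy ((orderOf_eq_one_iff.1 e) ▸ one_mem _)
  refine ⟨p, hp, ⟨⟨fun a b => Subtype.ext (hcomm a b)⟩⟩, fun y _ => ?_⟩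
  refine orderOf_dvd_iff_pow_eq_one.1 ?_
  by_cases hy : y ∈ H
  · by_cases hy1 : y = 1
    · rw [hy1, orderOf_one]; exact one_dvd _
    obtain ⟨w, -, hw⟩ := SetLike.exists_of_lt (lt_top_iff_ne_top.2 (hne H hH))
    obtain ⟨K, hK, hwK⟩ := hcov w fun e => hw (e ▸ one_mem _)
    have hyK : y ∉ K := fun e => hw (huniq hH hK hy1 hy e ▸ hwK)
    exact key w hw ▸ hdvd hK (fun e => hw (e ▸ one_mem _)) hwK hyK
  · exact (key y hy).dvd

/-- If two classes of Frobenius complements of a partition existed they would fill more than the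
group: some member is normal. -/
theorem exists_normal_member {F : Subgroup X → Prop}
    (hcov : ∀ x : X, x ≠ 1 → ∃ H, F H ∧ x ∈ H)
    (hti : ∀ H K, F H → F K → H ≠ K → H ⊓ K = ⊥)
    (hconj : ∀ H, F H → ∀ g : X, F (MulAut.conj g • H))
    (hfr : ∀ H, F H → ¬ H.Normal → Cfsg.IsFrobeniusComplement H)
    {H : Subgroup X} (hH : F H) (hHn : ¬ H.Normal) : ∃ B, F B ∧ B.Normal := by
  classical
  by_contra hnone
  push Not at hnone
  have hHf := hfr H hH hHn
  obtain ⟨x, hxF, hx1⟩ : ∃ x ∈ Cfsg.frobeniusKernel H, x ≠ 1 := by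
    by_contra hall
    push Not at hall
    have h1 : Nat.card (Cfsg.frobeniusKernel H) ≤ 1 := by
      haveI : Subsingleton (Cfsg.frobeniusKernel H) :=
        ⟨fun a b => Subtype.ext ((hall a a.2).trans (hall b b.2).symm)⟩
      exact Finite.card_le_one_iff_subsingleton.2 inferInstance
    rw [Frobenius.card_frobeniusKernel hHf] at h1
    exact hHf.2.1 (Subgroup.index_eq_one.1 (le_antisymm h1
      (Nat.one_le_iff_ne_zero.2 Subgroup.index_ne_zero_of_finite)))
  obtain ⟨B, hB, hxB⟩ := hcov x hx1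
  have hBf := hfr B hB (hnone B hB)
  have hun : Cfsg.frobeniusKernel H ∪ Cfsg.frobeniusKernel B = Set.univ := by
    refine Set.eq_univ_of_forall fun y => ?_
    by_contra hy
    simp only [Set.mem_union, Cfsg.frobeniusKernel, Set.mem_ofPred_eq, not_or, not_not,
      not_forall] at hy
    obtain ⟨⟨hy1, g, hg⟩, -, k, hk⟩ := hy
    have he : MulAut.conj g • H = MulAut.conj k • B := by
      by_contra hne'
      have := hti _ _ (hconj H hH g) (hconj B hB k) hne'
      exact hy1 (Subgroup.mem_bot.1 (this ▸ ⟨hg, hk⟩))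
    rcases hxF with h1 | h1
    · exact hx1 h1
    · refine h1 (k⁻¹ * g) ?_
      rw [map_mul, mul_smul, he, ← mul_smul, ← map_mul, inv_mul_cancel, map_one, one_smul]
      exact hxB
  have h1 := Set.ncard_union_add_ncard_inter (Cfsg.frobeniusKernel H) (Cfsg.frobeniusKernel B)
  have h2 : 1 ≤ (Cfsg.frobeniusKernel H ∩ Cfsg.frobeniusKernel B).ncard :=
    (Set.ncard_pos (Set.toFinite _)).2 ⟨1, Or.inl rfl, Or.inl rfl⟩
  rw [hun, Set.ncard_univ, ← Nat.card_coe_set_eq (Cfsg.frobeniusKernel H),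
    ← Nat.card_coe_set_eq (Cfsg.frobeniusKernel B), Frobenius.card_frobeniusKernel hHf,
    Frobenius.card_frobeniusKernel hBf] at h1
  have h3 : 2 ≤ Nat.card H := (Subgroup.one_lt_card_iff_ne_bot H).2 hHf.1
  have h4 : 2 ≤ Nat.card B := (Subgroup.one_lt_card_iff_ne_bot B).2 hBf.1
  have h5 := H.card_mul_index
  have h6 := B.card_mul_index
  have h7 := Nat.mul_le_mul_right H.index h3
  have h8 := Nat.mul_le_mul_right B.index h4
  omega

end Partition

section Relative

variable {G : Type u} [Group G] [Finite G] {N : Subgroup G} [N.Normal]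

theorem commute_coe {x y : N} : Commute (x : G) (y : G) ↔ Commute x y :=
  ⟨fun h => Subtype.ext h, fun h => congrArg Subtype.val h⟩

theorem coe_mem_C {x y : N} : (y : G) ∈ C (x : G) ↔ y ∈ C x := by
  rw [mem_C, mem_C, commute_coe]

variable (h : ∀ x : N, x ∉ center N → IsCoatom (C (x : G)))
include h

omit h in
theorem not_le_C {x : N} (hx : x ∉ center N) : ¬ N ≤ C (x : G) := fun hle =>
  hx (Subgroup.mem_center_iff.2 fun y => (commute_coe.1 (mem_C.1 (hle y.2))).eq.symm)

theorem ne_top_of {x : N} (hx : x ∉ center N) : C (x : G) ≠ ⊤ := (h x hx).1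

theorem rel_eq_of_le {x y : N} (hx : x ∉ center N) (hy : y ∉ center N)
    (hle : C (x : G) ≤ C (y : G)) : C (x : G) = C (y : G) :=
  ((h x hx).le_iff.1 hle).resolve_left (h y hy).1 |>.symm

theorem rel_C_pow {x : N} (hx : x ∉ center N) {k : ℕ} (hk : x ^ k ∉ center N) :
    C ((x ^ k : N) : G) = C (x : G) :=
  (rel_eq_of_le h hx hk fun _ hz => mem_C.2 (by
    rw [SubmonoidClass.coe_pow]; exact (mem_C.1 hz).pow_left k)).symm

theorem rel_mem_C_of_coprime {a b : N} (ha : a ∉ center N) (hb : Commute a b)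
    (hco : (orderOf a).Coprime (orderOf b)) {z : G} (hz : z ∈ C (a : G)) : Commute (b : G) z := by
  obtain ⟨k, l⟩ := Nat.chineseRemainder hco 1 0
  have hpa : (a * b) ^ k = a := by
    rw [hb.mul_pow, ← pow_mod_orderOf b k, show k % orderOf b = 0 from l.2, pow_zero, mul_one]
    conv_rhs => rw [← pow_one a]
    exact pow_eq_pow_iff_modEq.2 l.1
  have hab : a * b ∉ center N := fun hc => ha (hpa ▸ Subgroup.pow_mem _ hc k)
  have he : C ((a * b : N) : G) = C (a : G) := by
    have := rel_C_pow h hab (k := k) (hpa.symm ▸ ha)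
    rw [hpa] at this
    exact this.symm
  have h1 : Commute ((a * b : N) : G) z := mem_C.1 (he.symm ▸ hz)
  have h2 := (mem_C.1 hz).inv_left.mul_left h1
  rwa [Subgroup.coe_mul, inv_mul_cancel_left] at h2

theorem rel_exists_prime_pow {g : N} (hg : g ∉ center N) :
    ∃ (q : ℕ) (x : N), q.Prime ∧ (∃ k, orderOf x = q ^ k) ∧ x ∉ center N ∧ C (x : G) = C (g : G) := by
  classical
  have hex : ∃ n, 0 < n ∧ ∃ x : N, orderOf x = n ∧ x ∉ center N ∧ C (x : G) = C (g : G) :=
    ⟨orderOf g, orderOf_pos g, g, rfl, hg, rfl⟩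
  obtain ⟨hn0, x, hxn, hx, hC⟩ := Nat.find_spec hex
  have hn1 : orderOf x ≠ 1 := fun e => hx (orderOf_eq_one_iff.1 e ▸ one_mem _)
  obtain ⟨q, hq, hqd⟩ := Nat.exists_prime_and_dvd hn1
  obtain ⟨a, b, hab, ha, hb, ⟨k, hk⟩, hbq⟩ := FGSBSmall.exists_prime_split hq x
  refine ⟨q, x, hq, ?_, hx, hC⟩
  by_contra hpp
  have hlt : ∀ y : N, y ∈ zpowers x → orderOf y ≠ orderOf x → y ∈ center N := by
    intro y hy hne
    by_contra hyc
    rw [← mem_powers_iff_mem_zpowers] at hy
    obtain ⟨i, rfl⟩ := hy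
    have hd := orderOf_dvd_of_mem_zpowers (x := x) (y := x ^ i) (pow_mem (mem_zpowers x) i)
    have hlt' : orderOf (x ^ i) < Nat.find hex :=
      hxn ▸ lt_of_le_of_ne (Nat.le_of_dvd (orderOf_pos x) hd) hne
    exact Nat.find_min hex hlt' ⟨orderOf_pos _, x ^ i, rfl, hyc, (rel_C_pow h hx hyc).trans hC⟩
  refine hx (hab ▸ mul_mem (hlt a ha fun e => hpp ⟨k, by rw [← e, hk]⟩) (hlt b hb fun e => ?_))
  rw [e] at hbq
  exact hq.ne_one (Nat.eq_one_of_dvd_coprimes hbq hqd dvd_rfl)

/-- A subgroup invariant under a maximal centralizer. -/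
theorem invariant_cases {x : N} (hx : x ∉ center N) {H : Subgroup N}
    (hH : ∀ m ∈ C (x : G), ∀ k ∈ H, MulAut.conjNormal m k ∈ H) :
    H ≤ C x ∨ ∀ g : G, ∃ m ∈ C (x : G), ∃ k ∈ H, g = m * k := by
  have hN : C (x : G) ≤ normalizer ((H.map N.subtype : Subgroup G) : Set G) := by
    intro m hm
    refine Subgroup.mem_normalizer_iff.2 fun y => ?_
    constructor
    · rintro ⟨k, hk, rfl⟩
      exact ⟨_, hH m hm k hk, by rw [Subgroup.coe_subtype, MulAut.conjNormal_apply]⟩
    · rintro ⟨k, hk, hky⟩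
      refine ⟨_, hH m⁻¹ (inv_mem hm) k hk, ?_⟩
      rw [Subgroup.coe_subtype] at hky ⊢
      rw [MulAut.conjNormal_apply, hky]
      group
  rcases (h x hx).le_iff.1 (le_sup_left : C (x : G) ≤ C (x : G) ⊔ H.map N.subtype) with e | e
  · right
    intro g
    have hg : g ∈ ((C (x : G) ⊔ H.map N.subtype : Subgroup G) : Set G) := e ▸ mem_top g
    rw [Subgroup.coe_mul_of_left_le_normalizer_right _ _ hN] at hg
    obtain ⟨m, hm, _, ⟨k, hk, rfl⟩, rfl⟩ := Set.mem_mul.1 hg
    exact ⟨m, hm, k, hk, rfl⟩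
  · exact Or.inl fun k hk => coe_mem_C.1 (e ▸ mem_sup_right ⟨k, hk, rfl⟩)

theorem eq_or_top {x : N} (hx : x ∉ center N) {H : Subgroup N}
    (hH : ∀ m ∈ C (x : G), ∀ k ∈ H, MulAut.conjNormal m k ∈ H) (hle : C x ≤ H) :
    H = C x ∨ H = ⊤ := by
  rcases invariant_cases h hx hH with h1 | h1
  · exact Or.inl (le_antisymm h1 hle)
  · refine Or.inr (eq_top_iff.2 fun n _ => ?_)
    obtain ⟨m, hm, k, hk, hnk⟩ := h1 n
    have hmN : m ∈ N := by
      rw [show m = (n : G) * (k : G)⁻¹ by rw [hnk, mul_inv_cancel_right]]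
      exact mul_mem n.2 (inv_mem k.2)
    rw [show n = ⟨m, hmN⟩ * k from Subtype.ext hnk]
    exact mul_mem (hle (coe_mem_C.1 hm)) hk

omit h in
theorem C_invariant {x : N} : ∀ m ∈ C (x : G), ∀ k ∈ C x, MulAut.conjNormal m k ∈ C x := by
  intro m hm k hk
  rw [← coe_mem_C, MulAut.conjNormal_apply]
  exact mul_mem (mul_mem hm (coe_mem_C.2 hk)) (inv_mem hm)

/-- Either the centralizer in `N` is normal in `G`, or its normalizer is the centralizer in `G`. -/
theorem normal_or_self {x : N} (hx : x ∉ center N) :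
    (C (x : G) ⊓ N).Normal ∨ normalizer ((C (x : G) ⊓ N : Subgroup G) : Set G) = C (x : G) := by
  rcases (h x hx).le_iff.1 (fun m hm => Subgroup.mem_normalizer_iff.2 fun y => by
      constructor
      · rintro ⟨h1, h2⟩
        exact Subgroup.mem_inf.2 ⟨mul_mem (mul_mem hm h1) (inv_mem hm), (inferInstance : N.Normal).conj_mem y h2 m⟩
      · rintro ⟨h1, h2⟩
        have h3 := mul_mem (mul_mem (inv_mem hm) h1) hm
        have h4 := (inferInstance : N.Normal).conj_mem _ h2 m⁻¹
        simp only [mul_assoc, inv_inv, inv_mul_cancel_left, inv_mul_cancel, mul_one] at h3 h4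
        exact ⟨h3, h4⟩ :
      C (x : G) ≤ normalizer ((C (x : G) ⊓ N : Subgroup G) : Set G)) with e | e
  · exact Or.inl (normalizer_eq_top_iff.1 e)
  · exact Or.inr e

theorem mem_G_center {x z : N} (hx : x ∉ center N) (hz : z ∈ center N)
    (hzm : ∀ m ∈ C (x : G), Commute (z : G) m) : (z : G) ∈ center G := by
  refine Subgroup.mem_center_iff.2 fun g => ?_
  have h1 : C (x : G) < C (z : G) := by
    refine lt_of_le_not_ge (fun m hm => mem_C.2 (hzm m hm)) fun hle => ?_
    exact not_le_C hx fun n hn => hle (mem_C.2 (commute_coe.2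
      (Subgroup.mem_center_iff.1 hz ⟨n, hn⟩).symm))
  exact (mem_C.1 ((h x hx).2 _ h1 ▸ mem_top g : g ∈ C (z : G))).eq.symm

local notation "π" => QuotientGroup.mk' (Subgroup.center N)

omit h in
theorem comap_map_C (x : N) : ((C x).map π).comap π = C x :=
  Subgroup.comap_map_eq_self (by rw [QuotientGroup.ker_mk']; exact Subgroup.center_le_centralizer _)

/-- The `p`-group case. -/
theorem rel_pgroup_structure {p : ℕ} [Fact p.Prime] (hp : IsPGroup p (N ⧸ center N)) :
    Cfsg.IsElementaryAbelian p (⊤ : Subgroup (N ⧸ center N)) := by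
  haveI : Group.IsNilpotent N := Group.of_quotient_center_nilpotent hp.isNilpotent
  have hkey : ∀ x : N, x ∉ center N → ∀ a b : N, a ^ p ∈ C x ∧ a * b * a⁻¹ * b⁻¹ ∈ C x := by
    intro x hx
    have hCx : C x ≠ ⊤ := fun e => not_le_C hx fun n hn =>
      coe_mem_C.2 (e ▸ mem_top (⟨n, hn⟩ : N) : (⟨n, hn⟩ : N) ∈ C x)
    -- `C x` is normal in `G`
    haveI hKn : (C (x : G) ⊓ N).Normal := by
      rcases normal_or_self h hx with e | e
      · exact e
      · exfalso
        obtain ⟨g, hg, hgC⟩ := SetLike.exists_of_lt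
          (Group.normalizerCondition_of_isNilpotent _ (lt_top_iff_ne_top.2 hCx))
        refine hgC (coe_mem_C.1 (e ▸ Subgroup.mem_normalizer_iff.2 fun y => ?_))
        constructor
        · rintro ⟨h1, h2⟩
          exact Subgroup.mem_inf.2 ⟨coe_mem_C.2 ((Subgroup.mem_normalizer_iff.1 hg ⟨y, h2⟩).1 (coe_mem_C.1 h1)),
            mul_mem (mul_mem g.2 h2) (inv_mem g.2)⟩
        · rintro ⟨h1, h2⟩
          have h3 : y ∈ N := by
            simpa [mul_assoc] using mul_mem (mul_mem (inv_mem g.2) h2) g.2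
          exact Subgroup.mem_inf.2 ⟨coe_mem_C.2 ((Subgroup.mem_normalizer_iff.1 hg ⟨y, h3⟩).2
            ((coe_mem_C (x := x) (y := ⟨_, h2⟩)).1 h1)), h3⟩
    obtain ⟨L, hL, hle⟩ := (IsCoatomic.eq_top_or_exists_le_coatom (C x)).resolve_left hCx
    haveI hLn : L.Normal :=
      Subgroup.NormalizerCondition.normal_of_coatom L Group.normalizerCondition_of_isNilpotent hL
    have hq : IsPGroup p (N ⧸ L) := hp.of_surjective
      (QuotientGroup.map (center N) L (MonoidHom.id N)
        ((Subgroup.center_le_centralizer _).trans (hle.trans (Subgroup.comap_id _).ge)))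
      (QuotientGroup.map_surjective_of_surjective (center N) L _ (QuotientGroup.mk_surjective) _)
    obtain ⟨z, hz, hzq⟩ : ∃ z : N, z ∉ L ∧ z ^ p ∈ L := by
      obtain ⟨w, -, hw⟩ := SetLike.exists_of_lt (lt_top_iff_ne_top.2 hL.1)
      obtain ⟨k, hk⟩ := hq (w : N ⧸ L)
      rw [← QuotientGroup.mk_pow, QuotientGroup.eq_one_iff] at hk
      induction k generalizing w with
      | zero => exact absurd (by simpa using hk) hw
      | succ k ih =>
        by_cases hwp : w ^ p ∈ L
        · exact ⟨w, hw, hwp⟩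
        · exact ih (w ^ p) hwp (by rwa [← pow_mul, ← pow_succ'])
    have htop : zpowers z ⊔ L = ⊤ := (hL.le_iff.1 le_sup_right).resolve_right
      fun e => hz (e ▸ mem_sup_left (mem_zpowers z))
    have hgen : ∀ w : N, ∃ i : ℤ, (w : N ⧸ L) = (z : N ⧸ L) ^ i := by
      intro w
      obtain ⟨_, ⟨i, rfl⟩, c, hc, rfl⟩ := mem_sup_of_normal_right.1 (htop ▸ mem_top w)
      exact ⟨i, by rw [QuotientGroup.mk_mul, (QuotientGroup.eq_one_iff c).2 hc, mul_one]; rfl⟩
    have hmemL : ∀ a b : N, a ^ p ∈ L ∧ a * b * a⁻¹ * b⁻¹ ∈ L := by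
      intro a b
      obtain ⟨i, hi⟩ := hgen a
      obtain ⟨j, hj⟩ := hgen b
      constructor
      · rw [← QuotientGroup.eq_one_iff, QuotientGroup.mk_pow, hi, ← zpow_natCast, ← zpow_mul,
          mul_comm, zpow_mul, zpow_natCast, ← QuotientGroup.mk_pow,
          (QuotientGroup.eq_one_iff _).2 hzq, one_zpow]
      · rw [← QuotientGroup.eq_one_iff]
        simp only [QuotientGroup.mk_mul, QuotientGroup.mk_inv, hi, hj]
        group
    -- the `G`-core of `L`
    let T : Subgroup N :=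
      { carrier := {n | ∀ g : G, MulAut.conjNormal g n ∈ L}
        one_mem' := fun g => by rw [map_one]; exact one_mem _
        mul_mem' := fun ha hb g => by rw [map_mul]; exact mul_mem (ha g) (hb g)
        inv_mem' := fun ha g => by rw [map_inv]; exact inv_mem (ha g) }
    have hTC : T ≤ C x := by
      rcases invariant_cases h hx (H := T) (fun m _ k hk g => by
          rw [← MulAut.mul_apply, ← map_mul]; exact hk _) with h1 | h1
      · exact h1
      · exfalso
        refine hL.1 (eq_top_iff.2 fun n _ => ?_)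
        obtain ⟨m, hm, k, hk, hnk⟩ := h1 n
        have hmN : m ∈ N := by
          rw [show m = (n : G) * (k : G)⁻¹ by rw [hnk, mul_inv_cancel_right]]
          exact mul_mem n.2 (inv_mem k.2)
        rw [show n = ⟨m, hmN⟩ * k from Subtype.ext hnk]
        exact mul_mem (hle (coe_mem_C.1 hm)) (by simpa using hk 1)
    intro a b
    refine ⟨hTC fun g => ?_, hTC fun g => ?_⟩
    · rw [map_pow]; exact (hmemL _ a).1
    · simp only [map_mul, map_inv]; exact (hmemL _ _).2
  have hcen : ∀ z : N, (∀ x : N, x ∉ center N → z ∈ C x) → z ∈ center N := by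
    intro z hz
    refine Subgroup.mem_center_iff.2 fun x => ?_
    by_cases hx : x ∈ center N
    · exact (Subgroup.mem_center_iff.1 hx z).symm
    · exact (mem_C.1 (hz x hx)).eq
  refine ⟨⟨⟨?_⟩⟩, ?_⟩
  · rintro ⟨x, -⟩ ⟨y, -⟩
    obtain ⟨a, rfl⟩ := QuotientGroup.mk_surjective x
    obtain ⟨b, rfl⟩ := QuotientGroup.mk_surjective y
    refine Subtype.ext ?_
    have h1 := (QuotientGroup.eq_one_iff _).2 (hcen _ fun x hx => (hkey x hx a b).2)
    simp only [QuotientGroup.mk_mul, QuotientGroup.mk_inv] at h1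
    exact commutatorElement_eq_one_iff_mul_comm.1 h1
  · intro x _
    obtain ⟨a, rfl⟩ := QuotientGroup.mk_surjective x
    rw [← QuotientGroup.mk_pow, QuotientGroup.eq_one_iff]
    exact hcen _ fun x hx => (hkey x hx a a).1

/-- The case of abelian centralizers. -/
theorem rel_abelian_structure (hab : ∀ x : N, x ∉ center N → IsMulCommutative (C x)) :
    (∃ p : ℕ, p.Prime ∧ Cfsg.IsElementaryAbelian p (⊤ : Subgroup (↥N ⧸ Subgroup.center ↥N))) ∨
    (∃ (Q K : Subgroup (↥N ⧸ Subgroup.center ↥N)) (p : ℕ), p.Prime ∧ Cfsg.IsFrobeniusComplement Q ∧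
      (Nat.card ↥Q).Prime ∧ K.Normal ∧
      (K : Set (↥N ⧸ Subgroup.center ↥N)) = Cfsg.frobeniusKernel Q ∧ Cfsg.IsElementaryAbelian p K) := by
  classical
  by_cases hX : Subsingleton (N ⧸ center N)
  · exact Or.inl ⟨2, Nat.prime_two, ⟨⟨fun _ _ => Subsingleton.elim _ _⟩⟩,
      fun _ _ => Subsingleton.elim _ _⟩
  haveI : Nontrivial (N ⧸ center N) := not_subsingleton_iff_nontrivial.1 hX
  have hsurj := QuotientGroup.mk'_surjective (center N)
  have hEq : ∀ {x w : N}, x ∉ center N → w ∉ center N → w ∈ C x → C x = C w := by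
    intro x w hx hw hwx
    haveI := hab x hx
    haveI := hab w hw
    refine le_antisymm (fun z hz => mem_C.2 ?_) (fun z hz => mem_C.2 ?_)
    · exact congrArg Subtype.val (mul_comm' (⟨w, hwx⟩ : C x) ⟨z, hz⟩)
    · exact congrArg Subtype.val (mul_comm' (⟨x, mem_C.2 (mem_C.1 hwx).symm⟩ : C w) ⟨z, hz⟩)
  let F : Subgroup (N ⧸ center N) → Prop := fun K => ∃ x : N, x ∉ center N ∧ K = (C x).map π
  have hmem : ∀ (w x : N), (w : N ⧸ center N) ∈ (C x).map π ↔ w ∈ C x := fun w x =>
    iff_of_eq (congrArg (fun K : Subgroup N => w ∈ K) (comap_map_C x))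
  have hcov : ∀ z : N ⧸ center N, z ≠ 1 → ∃ K, F K ∧ z ∈ K := by
    intro z hz
    obtain ⟨x, rfl⟩ := QuotientGroup.mk_surjective z
    exact ⟨_, ⟨x, fun hx => hz ((QuotientGroup.eq_one_iff x).2 hx), rfl⟩,
      mem_map_of_mem π (self_mem_C x)⟩
  have hti : ∀ H K, F H → F K → H ≠ K → H ⊓ K = ⊥ := by
    rintro _ _ ⟨x, hx, rfl⟩ ⟨w, hw, rfl⟩ hne
    refine (Subgroup.eq_bot_iff_forall _).2 fun z hz => ?_
    obtain ⟨u, rfl⟩ := QuotientGroup.mk_surjective z
    by_contra hu
    have huc : u ∉ center N := fun hc => hu ((QuotientGroup.eq_one_iff u).2 hc)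
    obtain ⟨h1, h2⟩ := Subgroup.mem_inf.1 hz
    exact hne (by rw [hEq hx huc ((hmem u x).1 h1), hEq hw huc ((hmem u w).1 h2)])
  have habF : ∀ H, F H → IsMulCommutative H := by
    rintro _ ⟨x, hx, rfl⟩
    haveI := hab x hx
    refine ⟨⟨?_⟩⟩
    rintro ⟨_, u, hu, rfl⟩ ⟨_, v, hv, rfl⟩
    refine Subtype.ext ?_
    show π u * π v = π v * π u
    have h1 : u * v = v * u := congrArg Subtype.val (mul_comm' (⟨u, hu⟩ : C x) ⟨v, hv⟩)
    rw [← map_mul, ← map_mul, h1]
  have hneTop : ∀ H, F H → H ≠ ⊤ := by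
    rintro _ ⟨x, hx, rfl⟩ e
    exact not_le_C hx fun n hn => coe_mem_C.2 ((hmem ⟨n, hn⟩ x).1 (e ▸ mem_top _))
  -- normality in `N` and in `G` agree
  have hGn : ∀ x : N, x ∉ center N → ((C x).map π).Normal → (C (x : G) ⊓ N).Normal := by
    intro x hx hn
    rcases normal_or_self h hx with e | e
    · exact e
    · exfalso
      refine not_le_C hx fun n hn' => e ▸ Subgroup.mem_normalizer_iff.2 fun y => ?_
      have hCn : (C x).Normal := comap_map_C x ▸ hn.comap _
      constructor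
      · rintro ⟨h1, h2⟩
        exact Subgroup.mem_inf.2 ⟨coe_mem_C.2 (hCn.conj_mem ⟨y, h2⟩ (coe_mem_C.1 h1) ⟨n, hn'⟩),
          mul_mem (mul_mem hn' h2) (inv_mem hn')⟩
      · rintro ⟨h1, h2⟩
        have h3 : y ∈ N := by simpa [mul_assoc] using mul_mem (mul_mem (inv_mem hn') h2) hn'
        have h4 : (⟨n * y * n⁻¹, h2⟩ : N) ∈ C x := coe_mem_C.1 h1
        refine Subgroup.mem_inf.2 ⟨(coe_mem_C (x := x) (y := ⟨y, h3⟩)).2 ?_, h3⟩
        have := hCn.conj_mem _ h4 (⟨n, hn'⟩ : N)⁻¹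
        convert this using 1
        exact Subtype.ext (by simp [mul_assoc])
  by_cases hex : ∃ H, F H ∧ ¬ H.Normal
  swap
  · push Not at hex
    exact Or.inl (elementary_of_normal_partition habF hneTop hcov hti hex)
  obtain ⟨H, hH, hHn⟩ := hex
  have hfr : ∀ H, F H → ¬ H.Normal → Cfsg.IsFrobeniusComplement H := by
    rintro _ ⟨x, hx, rfl⟩ hn
    refine ⟨fun e => hx ?_, hneTop _ ⟨x, hx, rfl⟩, fun g hg => ?_⟩
    · have := mem_map_of_mem π (self_mem_C x)
      rw [e, mem_bot] at this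
      exact (QuotientGroup.eq_one_iff x).1 this
    · obtain ⟨a, rfl⟩ := QuotientGroup.mk_surjective g
      have hself : normalizer ((C (x : G) ⊓ N : Subgroup G) : Set G) = C (x : G) := by
        refine (normal_or_self h hx).resolve_left fun e => hn ?_
        refine Subgroup.Normal.map ?_ _ hsurj
        refine ⟨fun u hu v => coe_mem_C.1 ?_⟩
        exact (e.conj_mem u ⟨coe_mem_C.2 hu, u.2⟩ v).1
      refine (Subgroup.eq_bot_iff_forall _).2 fun z hz => ?_
      obtain ⟨u, rfl⟩ := QuotientGroup.mk_surjective z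
      by_contra hu
      have huc : u ∉ center N := fun hc => hu ((QuotientGroup.eq_one_iff u).2 hc)
      obtain ⟨h1, h2⟩ := Subgroup.mem_inf.1 hz
      rw [Subgroup.mem_pointwise_smul_iff_inv_smul_mem, MulAut.smul_def, MulAut.inv_def,
        MulAut.conj_symm_apply, ← QuotientGroup.mk_inv, ← QuotientGroup.mk_mul,
        ← QuotientGroup.mk_mul, hmem] at h2
      have hax : a * x * a⁻¹ ∉ center N := fun hc => hx (by
        simpa [mul_assoc] using (inferInstance : (center N).Normal).conj_mem _ hc a⁻¹)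
      have hua : u ∈ C (a * x * a⁻¹) := mem_C.2 (by
        simpa [mul_assoc] using (mem_C.1 h2).map (MulAut.conj a).toMonoidHom)
      have he : C x = C (a * x * a⁻¹) := by
        rw [hEq hx huc ((hmem u x).1 h1), hEq hax huc hua]
      refine hg ((hmem a x).2 (coe_mem_C.1 (hself ▸ Subgroup.mem_normalizer_iff.2 fun y => ?_)))
      constructor
      · rintro ⟨h3, h4⟩
        refine Subgroup.mem_inf.2 ⟨?_, mul_mem (mul_mem a.2 h4) (inv_mem a.2)⟩
        have h5 : (⟨y, h4⟩ : N) ∈ C x := coe_mem_C.1 h3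
        refine (coe_mem_C (x := x) (y := ⟨(a : G) * y * (a : G)⁻¹, mul_mem (mul_mem a.2 h4) (inv_mem a.2)⟩)).2 ?_
        rw [he]
        exact mem_C.2 (by
          have := (mem_C.1 h5).map (MulAut.conj a).toMonoidHom
          exact this)
      · rintro ⟨h3, h4⟩
        have h5 : y ∈ N := by simpa [mul_assoc] using mul_mem (mul_mem (inv_mem a.2) h4) a.2
        refine Subgroup.mem_inf.2 ⟨(coe_mem_C (x := x) (y := ⟨y, h5⟩)).2 ?_, h5⟩
        have h6 : (⟨(a : G) * y * (a : G)⁻¹, h4⟩ : N) ∈ C (a * x * a⁻¹) := he ▸ coe_mem_C.1 h3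
        have h7 : a * ⟨y, h5⟩ * a⁻¹ ∈ C (a * x * a⁻¹) := h6
        exact mem_C.2 (by simpa [mul_assoc] using (mem_C.1 h7).map (MulAut.conj a⁻¹).toMonoidHom)
  have hconj : ∀ H, F H → ∀ g : N ⧸ center N, F (MulAut.conj g • H) := by
    rintro _ ⟨x, hx, rfl⟩ g
    obtain ⟨a, rfl⟩ := QuotientGroup.mk_surjective g
    refine ⟨a * x * a⁻¹, fun hc => hx (by
      simpa [mul_assoc] using (inferInstance : (center N).Normal).conj_mem _ hc a⁻¹), ?_⟩
    ext y
    obtain ⟨u, rfl⟩ := QuotientGroup.mk_surjective y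
    rw [Subgroup.mem_pointwise_smul_iff_inv_smul_mem, MulAut.smul_def, MulAut.inv_def,
      MulAut.conj_symm_apply, ← QuotientGroup.mk_inv, ← QuotientGroup.mk_mul,
      ← QuotientGroup.mk_mul, hmem, hmem, mem_C, mem_C]
    constructor
    · intro hc
      simpa [mul_assoc] using hc.map (MulAut.conj a).toMonoidHom
    · intro hc
      simpa [mul_assoc] using hc.map (MulAut.conj a⁻¹).toMonoidHom
  obtain ⟨B, hB, hBn⟩ := exists_normal_member hcov hti hconj hfr hH hHn
  have hHB : H ⊓ B = ⊥ := hti H B hH hB fun e => hHn (e ▸ hBn)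
  have hHf := hfr H hH hHn
  obtain ⟨x, hx, rfl⟩ := hH
  obtain ⟨b, hb, rfl⟩ := hB
  haveI hbn : (C (b : G) ⊓ N).Normal := hGn b hb hBn
  haveI := hab b hb
  haveI := hab x hx
  have hself : normalizer ((C (x : G) ⊓ N : Subgroup G) : Set G) = C (x : G) := by
    refine (normal_or_self h hx).resolve_left fun e => hHn ?_
    refine Subgroup.Normal.map ?_ _ hsurj
    refine ⟨fun u hu v => coe_mem_C.1 ?_⟩
    exact (e.conj_mem u ⟨coe_mem_C.2 hu, u.2⟩ v).1
  have hxb : ∀ u : N, u ∈ C x → u ∈ C b → u ∈ center N := by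
    intro u h1 h2
    rw [← QuotientGroup.eq_one_iff]
    have : (u : N ⧸ center N) ∈ (C x).map π ⊓ (C b).map π :=
      Subgroup.mem_inf.2 ⟨(hmem u x).2 h1, (hmem u b).2 h2⟩
    rwa [hHB, mem_bot] at this
  -- `C x` is central in `C (x : G)`
  have hcen0 : ∀ w : N, w ∈ C x → w ∉ center N → C (w : G) = C (x : G) := by
    intro w hw hwc
    refine rel_eq_of_le h hwc hx (hself ▸ fun m hm => Subgroup.mem_normalizer_iff.2 fun y => ?_)
    have hwx := hEq hx hwc hw
    constructor
    · rintro ⟨h1, h2⟩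
      have h3 : (⟨y, h2⟩ : N) ∈ C w := hwx ▸ coe_mem_C.1 h1
      have h4 := C_invariant m hm _ h3
      rw [← hwx, ← coe_mem_C, MulAut.conjNormal_apply] at h4
      exact ⟨h4, (inferInstance : N.Normal).conj_mem y h2 m⟩
    · rintro ⟨h1, h2⟩
      have h5 : y ∈ N := by simpa [mul_assoc] using (inferInstance : N.Normal).conj_mem _ h2 m⁻¹
      have h3 : (⟨m * y * m⁻¹, h2⟩ : N) ∈ C w := hwx ▸ coe_mem_C.1 h1
      have h4 := C_invariant m⁻¹ (inv_mem hm) _ h3
      rw [← hwx, ← coe_mem_C, MulAut.conjNormal_apply] at h4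
      exact ⟨by simpa [mul_assoc] using h4, h5⟩
  have hcen : ∀ w : N, w ∈ C x → ∀ m ∈ C (x : G), Commute (w : G) m := by
    intro w hw m hm
    by_cases hwc : w ∈ center N
    · have h1 : w * x ∉ center N := fun hc => hx (by simpa using mul_mem (inv_mem hwc) hc)
      have h2 := mem_C.1 (hcen0 (w * x) (mul_mem hw (self_mem_C x)) h1 ▸ hm :
        m ∈ C ((w * x : N) : G))
      simpa using h2.mul_left (mem_C.1 hm).inv_left
    · exact mem_C.1 (hcen0 w hw hwc ▸ hm)
  have hmin : ∀ W : Subgroup N, (∀ g : G, ∀ k ∈ W, MulAut.conjNormal g k ∈ W) →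
      center N ≤ W → W ≤ C b → (∃ w ∈ W, w ∉ center N) →
      C b ≤ W ∧ ∀ g : G, ∃ m ∈ C (x : G), ∃ k ∈ W, g = m * k := by
    intro W hW hZW hWb ⟨w, hwW, hwc⟩
    rcases invariant_cases h hx (H := W) (fun m _ => hW m) with h1 | h1
    · exact absurd (hxb w (h1 hwW) (hWb hwW)) hwc
    · refine ⟨fun n hn => ?_, h1⟩
      obtain ⟨m, hm, k, hk, hnk⟩ := h1 n
      have hmN : m ∈ N := by
        rw [show m = (n : G) * (k : G)⁻¹ by rw [hnk, mul_inv_cancel_right]]
        exact mul_mem n.2 (inv_mem k.2)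
      have e1 : n = ⟨m, hmN⟩ * k := Subtype.ext hnk
      have h2 : (⟨m, hmN⟩ : N) ∈ C b := by
        rw [show (⟨m, hmN⟩ : N) = n * k⁻¹ by rw [e1, mul_inv_cancel_right]]
        exact mul_mem hn (inv_mem (hWb hk))
      rw [e1]
      exact mul_mem (hZW (hxb _ (coe_mem_C.1 hm) h2)) hk
  have hbinv : ∀ g : G, ∀ k ∈ C b, MulAut.conjNormal g k ∈ C b := by
    intro g k hk
    rw [← coe_mem_C, MulAut.conjNormal_apply]
    exact (hbn.conj_mem k ⟨coe_mem_C.2 hk, k.2⟩ g).1
  obtain ⟨-, hdecomp⟩ := hmin (C b) hbinv (Subgroup.center_le_centralizer _) le_rfl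
    ⟨b, self_mem_C b, hb⟩
  -- the exponent of `B`
  have hBab := habF _ ⟨b, hb, rfl⟩
  obtain ⟨p, hp, hBexp⟩ : ∃ p : ℕ, p.Prime ∧ ∀ z ∈ (C b).map π, z ^ p = 1 := by
    have hB1 : (C b).map π ≠ ⊥ := by
      intro e
      have := mem_map_of_mem π (self_mem_C b)
      rw [e, mem_bot] at this
      exact hb ((QuotientGroup.eq_one_iff b).1 this)
    obtain ⟨p, hp, hpd⟩ := Nat.exists_prime_and_dvd (n := Nat.card ((C b).map π))
      fun e => hB1 (Subgroup.eq_bot_of_card_eq _ e)
    haveI := Fact.mk hp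
    obtain ⟨⟨z, hz⟩, hzo⟩ := exists_prime_orderOf_dvd_card' p hpd
    obtain ⟨w, hw, rfl⟩ := hz
    refine ⟨p, hp, ?_⟩
    let W : Subgroup N :=
      { carrier := {n | n ∈ C b ∧ n ^ p ∈ center N}
        one_mem' := ⟨one_mem _, by rw [one_pow]; exact one_mem _⟩
        mul_mem' := fun {u v} hu hv => ⟨mul_mem hu.1 hv.1, by
          have hc : Commute u v := congrArg Subtype.val (mul_comm' (⟨u, hu.1⟩ : C b) ⟨v, hv.1⟩)
          rw [hc.mul_pow]; exact mul_mem hu.2 hv.2⟩
        inv_mem' := fun {u} hu => ⟨inv_mem hu.1, by rw [inv_pow]; exact inv_mem hu.2⟩ }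
    have hw1 : (orderOf (π w) : ℕ) = p := by rw [← hzo]; exact (Subgroup.orderOf_mk _ _).symm
    have hWle := (hmin W (fun g k hk => ⟨hbinv g k hk.1, by
        rw [← map_pow]
        refine Subgroup.mem_center_iff.2 fun u => (MulAut.conjNormal (H := N) g).symm.injective ?_
        rw [map_mul, map_mul, MulEquiv.symm_apply_apply]
        exact Subgroup.mem_center_iff.1 hk.2 _⟩)
      (fun z hz => ⟨Subgroup.center_le_centralizer _ hz, pow_mem hz p⟩) (fun z hz => hz.1)
      ⟨w, ⟨hw, (QuotientGroup.eq_one_iff (w ^ p)).1 (by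
        show π (w ^ p) = 1
        rw [map_pow, ← hw1, pow_orderOf_eq_one])⟩,
        fun hc => hp.ne_one (by
          rw [← hw1, show π w = 1 from (QuotientGroup.eq_one_iff w).2 hc, orderOf_one])⟩).1
    rintro _ ⟨u, hu, rfl⟩
    rw [← map_pow]
    exact (QuotientGroup.eq_one_iff _).2 (hWle hu).2
  refine Or.inr ⟨(C x).map π, (C b).map π, p, hp, hHf, ?_, hBn, ?_, hBab, hBexp⟩
  · -- prime order
    have hcyc : ∀ w : N, w ∈ C x → w ∉ center N →
        (C x).map π = zpowers (π w) := by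
      intro w hw hwc
      refine le_antisymm ?_ (zpowers_le.2 (mem_map_of_mem π hw))
      rintro _ ⟨v, hv, rfl⟩
      have hwD : (w : G) ∉ C (b : G) := fun hc => hwc (hxb w hw (coe_mem_C.1 hc))
      have hnorm : zpowers (w : G) ≤ normalizer ((C (b : G) : Subgroup G) : Set G) := by
        have hfor : ∀ i : ℤ, ∀ d ∈ C (b : G), (w : G) ^ i * d * ((w : G) ^ i)⁻¹ ∈ C (b : G) := by
          intro i d hd
          obtain ⟨m, hm, k, hk, rfl⟩ := hdecomp d
          have hmD : m ∈ C (b : G) := by simpa using mul_mem hd (inv_mem (coe_mem_C.2 hk))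
          have hc : Commute ((w : G) ^ i) m := (hcen w hw m hm).zpow_left i
          rw [show (w : G) ^ i * (m * k) * ((w : G) ^ i)⁻¹ =
            m * ((w : G) ^ i * k * ((w : G) ^ i)⁻¹) by
              rw [← mul_assoc ((w : G) ^ i), hc.eq]; group]
          refine mul_mem hmD ?_
          rw [← MulAut.conjNormal_apply, coe_mem_C]
          exact hbinv _ k hk
        rintro _ ⟨i, rfl⟩
        refine Subgroup.mem_normalizer_iff.2 fun y => ⟨hfor i y, fun hy => ?_⟩
        have := hfor (-i) _ hy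
        simpa [mul_assoc, zpow_neg] using this
      have htop : zpowers (w : G) ⊔ C (b : G) = ⊤ :=
        ((h b hb).le_iff.1 le_sup_right).resolve_right
          fun e => hwD (e ▸ mem_sup_left (mem_zpowers _))
      have hvs : (v : G) ∈ ((zpowers (w : G) ⊔ C (b : G) : Subgroup G) : Set G) := htop ▸ mem_top _
      rw [Subgroup.coe_mul_of_left_le_normalizer_right _ _ hnorm] at hvs
      obtain ⟨_, ⟨i, rfl⟩, d, hd, hvd⟩ := Set.mem_mul.1 hvs
      have hdN : d ∈ N := by
        rw [show d = ((w : G) ^ i)⁻¹ * v by rw [← hvd]; group]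
        exact mul_mem (inv_mem (zpow_mem w.2 i)) v.2
      have e1 : v = w ^ i * ⟨d, hdN⟩ := Subtype.ext hvd.symm
      have hdx : (⟨d, hdN⟩ : N) ∈ C x := by
        rw [show (⟨d, hdN⟩ : N) = (w ^ i)⁻¹ * v by rw [e1, inv_mul_cancel_left]]
        exact mul_mem (inv_mem (zpow_mem hw i)) hv
      rw [e1, map_mul, map_zpow, show π (⟨d, hdN⟩ : N) = 1 from
        (QuotientGroup.eq_one_iff _).2 (hxb _ hdx (coe_mem_C.1 hd)), mul_one]
      exact zpow_mem (mem_zpowers _) i
    obtain ⟨r, hr, hrd⟩ := Nat.exists_prime_and_dvd (n := Nat.card ((C x).map π))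
      fun e => hHf.1 (Subgroup.eq_bot_of_card_eq _ e)
    haveI := Fact.mk hr
    obtain ⟨⟨_, w, hw, rfl⟩, hwo⟩ := exists_prime_orderOf_dvd_card' r hrd
    replace hwo : orderOf (π w) = r := (Subgroup.orderOf_mk _ _).symm.trans hwo
    rw [hcyc w hw fun hc => hr.ne_one (by
      rw [← hwo, show π w = 1 from (QuotientGroup.eq_one_iff w).2 hc, orderOf_one]),
      Nat.card_zpowers, hwo]
    exact hr
  · -- the kernel
    haveI := hBn
    have hsub : (((C b).map π : Subgroup _) : Set (N ⧸ center N)) ⊆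
        Cfsg.frobeniusKernel ((C x).map π) := by
      intro z hz
      by_cases hz1 : z = 1
      · exact Or.inl hz1
      refine Or.inr fun g hg => hz1 ?_
      rw [Subgroup.mem_pointwise_smul_iff_inv_smul_mem, MulAut.smul_def, MulAut.inv_def,
        MulAut.conj_symm_apply] at hg
      have h2 : g⁻¹ * z * g ∈ (C b).map π := by simpa using hBn.conj_mem z hz g⁻¹
      have h3 : g⁻¹ * z * g ∈ (C x).map π ⊓ (C b).map π := Subgroup.mem_inf.2 ⟨hg, h2⟩
      rw [hHB, mem_bot] at h3
      calc z = g * (g⁻¹ * z * g) * g⁻¹ := by group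
        _ = 1 := by rw [h3, mul_one, mul_inv_cancel]
    have hc : ((C b).map π).IsComplement' ((C x).map π) := by
      refine Subgroup.isComplement'_of_disjoint_and_mul_eq_univ
        (disjoint_iff.2 (by rw [inf_comm]; exact hHB)) ?_
      rw [← Subgroup.normal_mul, Subgroup.coe_eq_univ, eq_top_iff]
      intro z _
      obtain ⟨n, rfl⟩ := QuotientGroup.mk_surjective z
      obtain ⟨m, hm, k, hk, hnk⟩ := hdecomp n
      have hmN : m ∈ N := by
        rw [show m = (n : G) * (k : G)⁻¹ by rw [hnk, mul_inv_cancel_right]]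
        exact mul_mem n.2 (inv_mem k.2)
      rw [show n = ⟨m, hmN⟩ * k from Subtype.ext hnk, QuotientGroup.mk_mul]
      exact mul_mem (mem_sup_right ((hmem _ x).2 (coe_mem_C.1 hm)))
        (mem_sup_left ((hmem _ b).2 hk))
    refine Set.eq_of_subset_of_ncard_le hsub ?_ (Set.toFinite _)
    rw [← Nat.card_coe_set_eq, ← Nat.card_coe_set_eq, Frobenius.card_frobeniusKernel hHf,
      SetLike.coe_sort_coe, hc.index_eq_card]

/-- `p'`-elements of a nonabelian centralizer of a noncentral `p`-element are central. -/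
theorem rel_coprime_central {p : ℕ} [Fact p.Prime] {a : N} (ha : a ∉ center N)
    (hap : ∃ k, orderOf a = p ^ k) (hab : ¬ IsMulCommutative (C a)) {w : N} (hw : w ∈ C a)
    (hwp : (orderOf w).Coprime p) : w ∈ center N := by
  obtain ⟨e, he⟩ := hap
  have hco : ∀ {y : N}, (orderOf y).Coprime p → (orderOf a).Coprime (orderOf y) := fun hy =>
    he ▸ (hy.symm.pow_left e)
  by_contra hwc
  have hC : C (a : G) = C (w : G) := rel_eq_of_le h ha hwc fun z hz =>
    mem_C.2 (rel_mem_C_of_coprime h ha (mem_C.1 hw) (hco hwp) hz)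
  refine hab ⟨⟨fun u v => Subtype.ext ?_⟩⟩
  show (u : N) * v = v * u
  obtain ⟨x, y, hxy, hx, hy, ⟨k, hk⟩, hyp⟩ :=
    FGSBSmall.exists_prime_split (Fact.out : p.Prime) (v : N)
  have hxC : x ∈ C a := zpowers_le.2 v.2 hx
  have hyC : y ∈ C a := zpowers_le.2 v.2 hy
  have h1 : Commute x u := commute_coe.1 (rel_mem_C_of_coprime h hwc
    (commute_coe.1 (mem_C.1 (hC ▸ coe_mem_C.2 hxC))) (hk ▸ hwp.pow_right k)
    (hC ▸ coe_mem_C.2 u.2))
  have h2 : Commute y u := commute_coe.1 (rel_mem_C_of_coprime h ha (mem_C.1 hyC) (hco hyp)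
    (coe_mem_C.2 u.2))
  rw [← hxy]
  exact (h1.mul_left h2).symm.eq

/-- If some nonabelian centralizer is normal, then `N ⧸ Z(N)` is a `p`-group. -/
theorem rel_isPGroup_of_normal {p : ℕ} [Fact p.Prime] {a : N} (ha : a ∉ center N)
    (hap : ∃ k, orderOf a = p ^ k) (hab : ¬ IsMulCommutative (C a))
    [hn : (C (a : G) ⊓ N).Normal] : IsPGroup p (N ⧸ center N) := by
  classical
  have hp : p.Prime := Fact.out
  by_contra hnp
  obtain ⟨y, hy, hyp⟩ : ∃ y : N, y ∉ C a ∧ (orderOf y).Coprime p := by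
    by_contra hall
    push Not at hall
    refine hnp fun g => ?_
    obtain ⟨g, rfl⟩ := QuotientGroup.mk_surjective g
    obtain ⟨x, y, hxy, -, -, ⟨k, hk⟩, hyp⟩ := FGSBSmall.exists_prime_split hp g
    have hy : y ∈ C a := by
      by_contra hy
      exact hall y hy hyp
    refine ⟨k, ?_⟩
    rw [← hxy, QuotientGroup.mk_mul,
      (QuotientGroup.eq_one_iff y).2 (rel_coprime_central h ha hap hab hy hyp), mul_one,
      ← QuotientGroup.mk_pow, ← hk, pow_orderOf_eq_one, QuotientGroup.mk_one]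
  have hyc : y ∉ center N := fun hc => hy (Subgroup.center_le_centralizer _ hc)
  have haD : (a : G) ∉ C (y : G) := fun haD => hy (mem_C.2 (mem_C.1 (coe_mem_C.1 haD)).symm)
  set K : Subgroup G := C (a : G) ⊓ N with hK
  set A : Subgroup G := (center K).map K.subtype with hAdef
  haveI : A.Normal := by rw [hAdef]; infer_instance
  have haK : (a : G) ∈ K := Subgroup.mem_inf.2 ⟨self_mem_C _, a.2⟩
  have haA : (a : G) ∈ A := ⟨⟨a, haK⟩, Subgroup.mem_center_iff.2 fun w => Subtype.ext
    (mem_C.1 (Subgroup.mem_inf.1 w.2).1).symm.eq, rfl⟩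
  have htop : C (y : G) ⊔ A = ⊤ := ((h y hyc).le_iff.1 le_sup_left).resolve_right
    fun e => haD (e ▸ mem_sup_right haA)
  have hAK : ∀ t ∈ A, ∀ w ∈ K, Commute t w := by
    rintro _ ⟨t, ht, rfl⟩ w hw
    exact (congrArg Subtype.val (Subgroup.mem_center_iff.1 ht ⟨w, hw⟩)).symm
  have hAle : A ≤ K := Subgroup.map_subtype_le _
  have hDcomm : ∀ d ∈ C (y : G), d ∈ K → ∀ d' ∈ C (y : G), d' ∈ K → Commute d d' := by
    intro d hd hdK d' hd' hdK'
    obtain ⟨hda, hdN⟩ := Subgroup.mem_inf.1 hdK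
    obtain ⟨x, w, hxw, hx, hw, ⟨k, hk⟩, hwp⟩ := FGSBSmall.exists_prime_split hp (⟨d, hdN⟩ : N)
    have hda' : (⟨d, hdN⟩ : N) ∈ C a := coe_mem_C.1 hda
    have hwc := rel_coprime_central h ha hap hab (zpowers_le.2 hda' hw) hwp
    have hdy : (⟨d, hdN⟩ : N) ∈ C y := coe_mem_C.1 hd
    have h1 : Commute (x : G) d' := rel_mem_C_of_coprime h hyc
      (mem_C.1 (zpowers_le.2 hdy hx)) (hk ▸ hyp.pow_right k) hd'
    have h2 : Commute (w : G) d' := commute_coe (y := ⟨d', (Subgroup.mem_inf.1 hdK').2⟩) |>.2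
      (Subgroup.mem_center_iff.1 hwc _).symm
    rw [show d = (x : G) * w from (congrArg Subtype.val hxw).symm]
    exact h1.mul_left h2
  apply hab
  refine ⟨⟨fun u v => Subtype.ext ?_⟩⟩
  show (u : N) * v = v * u
  refine commute_coe.1 ?_
  obtain ⟨d, hd, t, ht, hdt⟩ := mem_sup_of_normal_right.1 (htop ▸ mem_top ((u : N) : G))
  obtain ⟨d', hd', t', ht', hdt'⟩ := mem_sup_of_normal_right.1 (htop ▸ mem_top ((v : N) : G))
  have hmemK : ∀ (c s : G) (w : C a), s ∈ A → c * s = ((w : N) : G) → c ∈ K := by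
    intro c s w hs hcs
    rw [show c = ((w : N) : G) * s⁻¹ by rw [← hcs, mul_inv_cancel_right]]
    exact mul_mem (Subgroup.mem_inf.2 ⟨coe_mem_C.2 w.2, (w : N).2⟩) (inv_mem (hAle hs))
  have hdK := hmemK d t u ht hdt
  have hdK' := hmemK d' t' v ht' hdt'
  rw [← hdt, ← hdt']
  exact ((hDcomm d hd hdK d' hd' hdK').mul_right (hAK t' ht' d hdK).symm).mul_left
    ((hAK t ht d' hdK').mul_right (hAK t ht t' (hAle ht')))

/-- Elements of a nonabelian centralizer have central `p`-th power. -/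
theorem rel_pow_mem_center {p : ℕ} [Fact p.Prime] {a : N} (ha : a ∉ center N)
    (hap : ∃ k, orderOf a = p ^ k) (hab : ¬ IsMulCommutative (C a)) {m : N} (hm : m ∈ C a) :
    m ^ p ∈ center N := by
  classical
  obtain ⟨x, hxc, hxp, hCx⟩ : ∃ x : N, x ∉ center N ∧ x ^ p ∈ center N ∧ C (x : G) = C (a : G) := by
    obtain ⟨k, hk⟩ := hap
    have hex : ∃ j, a ^ p ^ j ∈ center N := ⟨k, by rw [← hk, pow_orderOf_eq_one]; exact one_mem _⟩
    have hj0 : Nat.find hex ≠ 0 := fun e => ha (by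
      have := Nat.find_spec hex
      rwa [e, pow_zero, pow_one] at this)
    obtain ⟨j, hj⟩ := Nat.exists_eq_succ_of_ne_zero hj0
    have hjn : a ^ p ^ j ∉ center N := Nat.find_min hex (by omega)
    refine ⟨a ^ p ^ j, hjn, ?_, rel_C_pow h ha hjn⟩
    rw [← pow_mul, ← pow_succ, ← Nat.succ_eq_add_one, ← hj]
    exact Nat.find_spec hex
  have hxG : ((x ^ p : N) : G) ∈ center G := mem_G_center h hxc hxp fun w hw => by
    rw [SubmonoidClass.coe_pow]; exact (mem_C.1 hw).pow_left p
  have key : ∀ u ∈ C a, C (u : G) ≠ C (a : G) → u ^ p ∈ center N := by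
    intro u hu hne
    by_contra hup
    have huc : u ∉ center N := fun hc => hup (pow_mem hc p)
    have hux' : u ∈ C x := coe_mem_C.1 (hCx.symm ▸ coe_mem_C.2 hu)
    have hcomm : Commute u x := (mem_C.1 hux').symm
    have hux : (u * x) ^ p = u ^ p * x ^ p := hcomm.mul_pow p
    have huxp : (u * x) ^ p ∉ center N := fun hc => hup (by
      rw [hux] at hc
      simpa using mul_mem hc (inv_mem hxp))
    have huxc : u * x ∉ center N := fun hc => huxp (pow_mem hc p)
    have h1 : C ((u * x : N) : G) = C (u : G) := by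
      rw [← rel_C_pow h huxc huxp, ← rel_C_pow h huc hup, hux]
      ext z
      rw [mem_C, mem_C, Subgroup.coe_mul]
      have hz : Commute ((x ^ p : N) : G) z := (Subgroup.mem_center_iff.1 hxG z).symm
      exact ⟨fun hc => by simpa using hc.mul_left hz.inv_left, fun hc => hc.mul_left hz⟩
    refine hne (hCx ▸ rel_eq_of_le h huc hxc fun z hz => mem_C.2 ?_)
    have hz' : Commute ((u * x : N) : G) z := mem_C.1 (h1.symm ▸ hz)
    simpa using (mem_C.1 hz).inv_left.mul_left hz'
  by_cases hne : C (m : G) ≠ C (a : G)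
  · exact key m hm hne
  rw [not_not] at hne
  by_contra hmp
  obtain ⟨v, hv, w, hw, hvw⟩ : ∃ v ∈ C a, ∃ w ∈ C a, ¬ Commute v w := by
    by_contra hall
    push Not at hall
    exact hab ⟨⟨fun u v => Subtype.ext (hall u u.2 v v.2).eq⟩⟩
  have hmw : Commute m w := commute_coe.1 (mem_C.1 (hne.symm ▸ coe_mem_C.2 hw))
  have hmv : Commute m v := commute_coe.1 (mem_C.1 (hne.symm ▸ coe_mem_C.2 hv))
  have hvne : C (v : G) ≠ C (a : G) := fun e =>
    hvw (commute_coe.1 (mem_C.1 (e.symm ▸ coe_mem_C.2 hw)))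
  have hvmne : C ((v * m : N) : G) ≠ C (a : G) := fun e => hvw (by
    have : Commute (v * m) w := commute_coe.1 (mem_C.1 (e.symm ▸ coe_mem_C.2 hw))
    simpa using this.mul_left hmw.inv_left)
  have h1 := key v hv hvne
  have h2 := key (v * m) (mul_mem hv hm) hvmne
  rw [hmv.symm.mul_pow] at h2
  exact hmp (by simpa using mul_mem (inv_mem h1) h2)

/-- If some centralizer is nonabelian then `N ⧸ Z(N)` is a `p`-group. -/
theorem rel_isPGroup_of_nonabelian {p : ℕ} [Fact p.Prime] {a : N} (ha : a ∉ center N)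
    (hap : ∃ k, orderOf a = p ^ k) (hab : ¬ IsMulCommutative (C a)) :
    IsPGroup p (N ⧸ center N) := by
  classical
  have hp : p.Prime := Fact.out
  by_cases hn : (C (a : G) ⊓ N).Normal
  · exact rel_isPGroup_of_normal h ha hap hab
  have hself : normalizer ((C (a : G) ⊓ N : Subgroup G) : Set G) = C (a : G) :=
    (normal_or_self h ha).resolve_left hn
  by_contra hnp
  set M := (C a).map π with hMdef
  have hsurj := QuotientGroup.mk'_surjective (center N)
  have hcm : M.comap π = C a := comap_map_C a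
  have hexp : ∀ x ∈ M, x ^ p = 1 := by
    rintro _ ⟨m, hm, rfl⟩
    rw [← map_pow]
    exact (QuotientGroup.eq_one_iff _).2 (rel_pow_mem_center h ha hap hab hm)
  have hMp : IsPGroup p M := fun x => ⟨1, Subtype.ext (by simpa using hexp x x.2)⟩
  -- `M` is self-normalizing
  have hMself : normalizer (M : Set (N ⧸ center N)) = M := by
    refine le_antisymm (fun g hg => ?_) le_normalizer
    obtain ⟨n, rfl⟩ := QuotientGroup.mk_surjective g
    have hn' : ∀ k : N, k ∈ C a ↔ n * k * n⁻¹ ∈ C a := fun k => by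
      have h1 := Subgroup.mem_normalizer_iff.1 hg (π k)
      rw [← hcm]
      simp only [Subgroup.mem_comap, map_mul, map_inv]
      exact h1
    refine mem_map_of_mem π (coe_mem_C.1 (hself ▸ Subgroup.mem_normalizer_iff.2 fun y => ?_))
    constructor
    · intro hy
      obtain ⟨h1, h2⟩ := Subgroup.mem_inf.1 hy
      exact Subgroup.mem_inf.2 ⟨(coe_mem_C (x := a) (y := n * ⟨y, h2⟩ * n⁻¹)).2
        ((hn' _).1 (coe_mem_C.1 h1)), (n * ⟨y, h2⟩ * n⁻¹).2⟩
    · intro hy
      obtain ⟨h1, h2⟩ := Subgroup.mem_inf.1 hy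
      have h3 : y ∈ N := by simpa [mul_assoc] using mul_mem (mul_mem (inv_mem n.2) h2) n.2
      refine Subgroup.mem_inf.2 ⟨(coe_mem_C (x := a) (y := ⟨y, h3⟩)).2 ((hn' _).2 ?_), h3⟩
      exact (coe_mem_C (x := a) (y := n * ⟨y, h3⟩ * n⁻¹)).1 h1
  obtain ⟨P, hPM⟩ := CfsgLib.ExtPrim.exists_sylow_eq hMp fun g hg _ => hMself ▸ hg
  have hMtop : M ≠ ⊤ := fun e => not_le_C ha fun n hn' => coe_mem_C.2 (by
    have : (⟨n, hn'⟩ : N) ∈ M.comap π := by rw [e, comap_top]; exact mem_top _
    rwa [hcm] at this)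
  -- every `p`-element is conjugate into `M`
  have hconj : ∀ s : N ⧸ center N, (∃ k, orderOf s = p ^ k) → ∃ c, c⁻¹ * s * c ∈ M := by
    intro s ⟨k, hk⟩
    obtain ⟨P', hP'⟩ := (IsPGroup.of_card_dvd_pow (p := p) (n := k)
      (G := zpowers s) (by rw [Nat.card_zpowers, hk])).exists_le_sylow
    obtain ⟨c, rfl⟩ := MulAction.exists_smul_eq (N ⧸ center N) P P'
    refine ⟨c, hPM ▸ ?_⟩
    have hs := hP' (mem_zpowers s)
    rw [Sylow.coe_subgroup_smul, Subgroup.mem_pointwise_smul_iff_inv_smul_mem] at hs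
    simpa [MulAut.smul_def] using hs
  have hW : ∀ s k : N ⧸ center N, (∃ j, orderOf s = p ^ j) → s ≠ 1 →
      (orderOf k).Coprime p → Commute s k → k = 1 := by
    suffices hkey : ∀ s k : N ⧸ center N, s ∈ M → s ≠ 1 → (orderOf k).Coprime p → Commute s k →
        k = 1 by
      intro s k hs hs1 hk hsk
      obtain ⟨c, hc⟩ := hconj s hs
      have h1 := hkey (c⁻¹ * s * c) (c⁻¹ * k * c) hc
        (fun e => hs1 (by
          have : s = c * (c⁻¹ * s * c) * c⁻¹ := by group
          rw [this, e, mul_one, mul_inv_cancel]))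
        (by
          have h2 : orderOf (MulAut.conj c⁻¹ k) = orderOf k := (MulAut.conj c⁻¹).orderOf_eq k
          rw [MulAut.conj_apply, inv_inv] at h2
          rwa [h2])
        (by simpa using hsk.map (MulAut.conj c⁻¹).toMonoidHom)
      have : k = c * (c⁻¹ * k * c) * c⁻¹ := by group
      rw [this, h1, mul_one, mul_inv_cancel]
    rintro _ k ⟨m, hm, rfl⟩ hs1 hk hsk
    obtain ⟨v, w, hvw, hv, hw, ⟨i, hi⟩, hwp⟩ := FGSBSmall.exists_prime_split hp m
    have hwc := rel_coprime_central h ha hap hab (zpowers_le.2 hm hw) hwp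
    have hvs : π v = π m := by
      rw [← hvw, map_mul, show π w = 1 from (QuotientGroup.eq_one_iff w).2 hwc, mul_one]
    have hvc : v ∉ center N := fun hc => hs1 (hvs ▸ (QuotientGroup.eq_one_iff v).2 hc)
    obtain ⟨g, rfl⟩ := QuotientGroup.mk'_surjective (center N) k
    obtain ⟨u, l, hul, hu, hl, ⟨j, hj⟩, hlp⟩ := FGSBSmall.exists_prime_split hp g
    have hu1 : π u = 1 := by
      refine orderOf_eq_one_iff.1 (Nat.eq_one_of_dvd_coprimes (hk.pow_right j) ?_ ?_)
      · obtain ⟨n, rfl⟩ := hu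
        show orderOf (π (g ^ n)) ∣ orderOf (π g)
        rw [map_zpow]
        exact orderOf_dvd_of_mem_zpowers (zpow_mem (mem_zpowers _) n)
      · exact hj ▸ orderOf_map_dvd π u
    have hl' : π l = π g := by rw [← hul, map_mul, hu1, one_mul]
    set c := v * l * v⁻¹ * l⁻¹ with hc
    have hcZ : c ∈ center N := by
      rw [← QuotientGroup.eq_one_iff]
      show π c = 1
      rw [hc, map_mul, map_mul, map_mul, map_inv, map_inv, hvs, hl', hsk.eq,
        mul_inv_cancel_right, mul_inv_cancel]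
    have hcc : ∀ z, Commute c z := fun z => (Subgroup.mem_center_iff.1 hcZ z).symm
    have hc1 : c = 1 := by
      refine orderOf_eq_one_iff.1 (Nat.eq_one_of_dvd_coprimes (hlp.pow_right i)
        (orderOf_dvd_of_pow_eq_one ?_) (orderOf_dvd_of_pow_eq_one ?_))
      · have h1 : v * l * v⁻¹ = c * l := by rw [hc]; group
        have h2 := congrArg (fun z => z ^ orderOf l) h1
        simp only [conj_pow, (hcc l).mul_pow, pow_orderOf_eq_one, mul_one, mul_inv_cancel] at h2
        exact h2.symm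
      · have h1 : l * v * l⁻¹ = c⁻¹ * v := by rw [hc]; group
        have h2 := congrArg (fun z => z ^ (p ^ i)) h1
        simp only [conj_pow, (hcc v).inv_left.mul_pow, inv_pow, ← hi, pow_orderOf_eq_one, mul_one,
          mul_inv_cancel] at h2
        rw [← hi]
        exact inv_eq_one.1 h2.symm
    have hvl : Commute v l := by
      rw [hc] at hc1
      exact mul_inv_eq_iff_eq_mul.1 (mul_inv_eq_one.1 hc1)
    have haCv : (a : G) ∈ C (v : G) :=
      coe_mem_C.2 (mem_C.2 (mem_C.1 (zpowers_le.2 hm hv)).symm)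
    have hla : l ∈ C a := mem_C.2 (commute_coe.1
      (rel_mem_C_of_coprime h hvc hvl (hi ▸ hlp.symm.pow_left i) haCv)).symm
    rw [← hl']
    exact (QuotientGroup.eq_one_iff l).2 (rel_coprime_central h ha hap hab hla hlp)
  refine no_selfnormalizing_sylow P ?_ (hPM ▸ hexp) ?_ hW ?_
  · intro hc
    rw [hPM] at hc
    haveI := hc
    rw [Subgroup.normalizer_eq_top] at hMself
    exact hMtop hMself.symm
  · rw [hPM]
    intro hc
    haveI := hc
    apply hab
    let f : C a →* M := MonoidHom.subgroupMap π (C a)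
    haveI : IsMulCommutative (C a) := f.isMulCommutative_of_isCyclic_of_ker_le_center (by
      intro z hz
      have hz' : π (z : N) = 1 := congrArg Subtype.val (MonoidHom.mem_ker.1 hz)
      refine Subgroup.mem_center_iff.2 fun w => Subtype.ext ?_
      exact Subgroup.mem_center_iff.1 ((QuotientGroup.eq_one_iff _).1 hz') w)
    assumption
  · intro H hH hinv
    rw [hPM] at hH hinv ⊢
    have hle : C a ≤ H.comap π := hcm ▸ Subgroup.comap_mono hH
    have hinvH : ∀ m ∈ C (a : G), ∀ k ∈ H.comap π, MulAut.conjNormal m k ∈ H.comap π := by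
      intro m hm k hk
      let α : MulAut N := MulAut.conjNormal m
      have hZ : (center N).map α.toMonoidHom = center N := by
        refine Subgroup.eq_of_le_of_card_ge ?_ (Subgroup.card_map_of_injective (f := α.toMonoidHom) α.injective).ge
        rintro _ ⟨z, hz, rfl⟩
        refine Subgroup.mem_center_iff.2 fun u => α.symm.injective ?_
        show α.symm (u * α z) = α.symm (α z * u)
        rw [map_mul, map_mul, MulEquiv.symm_apply_apply]
        exact Subgroup.mem_center_iff.1 hz _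
      let β : MulAut (N ⧸ center N) := QuotientGroup.congr (center N) (center N) α hZ
      have hβM : M.map β.toMonoidHom = M := by
        refine Subgroup.eq_of_le_of_card_ge ?_ (Subgroup.card_map_of_injective (f := β.toMonoidHom) β.injective).ge
        rintro _ ⟨_, ⟨u, hu, rfl⟩, rfl⟩
        exact ⟨α u, C_invariant m hm u hu, rfl⟩
      show π (α k) ∈ H
      rw [← hinv β hβM]
      exact ⟨π k, hk, rfl⟩
    rcases eq_or_top h ha hinvH hle with e | e
    · exact Or.inl (by rw [← map_comap_eq_self_of_surjective hsurj H, e])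
    · exact Or.inr (by
        rw [← map_comap_eq_self_of_surjective hsurj H, e, map_top_of_surjective _ hsurj])

/-- The relative structure theorem. -/
theorem rel_structure :
    (∃ p : ℕ, p.Prime ∧ Cfsg.IsElementaryAbelian p (⊤ : Subgroup (↥N ⧸ Subgroup.center ↥N))) ∨
    (∃ (Q K : Subgroup (↥N ⧸ Subgroup.center ↥N)) (p : ℕ), p.Prime ∧ Cfsg.IsFrobeniusComplement Q ∧
      (Nat.card ↥Q).Prime ∧ K.Normal ∧
      (K : Set (↥N ⧸ Subgroup.center ↥N)) = Cfsg.frobeniusKernel Q ∧ Cfsg.IsElementaryAbelian p K) := by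
  by_cases hab : ∀ x : N, x ∉ center N → IsMulCommutative (C x)
  · exact rel_abelian_structure h hab
  push Not at hab
  obtain ⟨g, hg, hgab⟩ := hab
  obtain ⟨p, a, hp, hap, ha, hC⟩ := rel_exists_prime_pow h hg
  haveI := Fact.mk hp
  have hCN : C a = C g := by
    ext z
    rw [← coe_mem_C, hC, coe_mem_C]
  exact Or.inl ⟨p, hp, rel_pgroup_structure h
    (rel_isPGroup_of_nonabelian h ha hap fun e => hgab (hCN ▸ e))⟩

end Relative

end CfsgLib.CentMax
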