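import Cfsg.Agent.CentMax.Basic
import Cfsg.Agent.Frobenius.Basic
import Cfsg.Agent.FGSB.Small

/-!
The structure of `G ⧸ Z(G)` when the centralizer of every noncentral element is maximal.
-/

set_option autoImplicit false
set_option linter.unusedSectionVars false

open scoped Pointwise

namespace CfsgLib.CentMax

open Subgroup

universe u

section Partition

variable {Q : Type u} [Group Q] [Finite Q]

omit [Finite Q] in
/-- A subgroup meeting a normal maximal subgroup trivially has no proper nontrivial subgroups. -/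
theorem eq_zpowers_of_inf {B H : Subgroup Q} [B.Normal] (hB : IsCoatom B) (hBH : H ⊓ B = ⊥)
    {z : Q} (hz : z ∈ H) (hz1 : z ≠ 1) : H = zpowers z := by
  refine le_antisymm (fun w hw => ?_) (zpowers_le.2 hz)
  have htop : zpowers z ⊔ B = ⊤ := (hB.le_iff.1 le_sup_right).resolve_right fun e => hz1 (by
    have : z ∈ H ⊓ B := ⟨hz, e ▸ mem_sup_left (mem_zpowers z)⟩
    rwa [hBH, mem_bot] at this)
  obtain ⟨a, ha, b, hb, hab⟩ := mem_sup_of_normal_right.1 (htop ▸ mem_top w)
  have : b ∈ H ⊓ B := Subgroup.mem_inf.2 ⟨by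
    have : b = a⁻¹ * w := by rw [← hab, inv_mul_cancel_left]
    exact this ▸ mul_mem (inv_mem (zpowers_le.2 hz ha)) hw, hb⟩
  rw [hBH, mem_bot] at this
  rw [← hab, this, mul_one]
  exact ha

theorem card_prime_of_inf {B H : Subgroup Q} [B.Normal] (hB : IsCoatom B) (hH : H ≠ ⊥)
    (hBH : H ⊓ B = ⊥) : (Nat.card H).Prime := by
  obtain ⟨r, hr, hrd⟩ := Nat.exists_prime_and_dvd (n := Nat.card H)
    (fun e => hH (Subgroup.eq_bot_of_card_eq H e))
  haveI := Fact.mk hr
  obtain ⟨z, hz⟩ := exists_prime_orderOf_dvd_card' r hrd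
  have hz1 : (z : Q) ≠ 1 := fun e => hr.ne_one (by
    rw [← hz, ← Subgroup.orderOf_coe, e, orderOf_one])
  rw [eq_zpowers_of_inf hB hBH z.2 hz1, Nat.card_zpowers, Subgroup.orderOf_coe, hz]
  exact hr

theorem frobenius_of_nonnormal {F : Subgroup Q → Prop} (hne : ∀ H, F H → H ≠ ⊥)
    (hmax : ∀ H, F H → IsCoatom H)
    (hti : ∀ H K, F H → F K → H ≠ K → H ⊓ K = ⊥)
    (hconj : ∀ H, F H → ∀ g : Q, F (MulAut.conj g • H))
    {H : Subgroup Q} (hH : F H) (hn : ¬ H.Normal) : Cfsg.IsFrobeniusComplement H := by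
  have hN : normalizer (H : Set Q) = H := ((hmax H hH).le_iff.1 le_normalizer).resolve_left
    fun e => hn (normalizer_eq_top_iff.1 e)
  refine ⟨hne H hH, (hmax H hH).1, fun g hg => hti _ _ hH (hconj H hH g) fun e => hg ?_⟩
  refine hN ▸ Subgroup.mem_normalizer_iff.2 fun x => ?_
  constructor
  · intro hx
    rw [e]
    exact Subgroup.smul_mem_pointwise_smul x (MulAut.conj g) H hx
  · intro hx
    rw [e, ← MulAut.conj_apply, ← MulAut.smul_def] at hx
    exact Subgroup.smul_mem_pointwise_smul_iff.1 hx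

/-- A finite noncyclic group with a conjugation invariant partition into abelian maximal
subgroups. -/
theorem partition_structure {F : Subgroup Q → Prop} (hne : ∀ H, F H → H ≠ ⊥)
    (hmax : ∀ H, F H → IsCoatom H) (hab : ∀ H, F H → IsMulCommutative H)
    (hcov : ∀ x : Q, x ≠ 1 → ∃ H, F H ∧ x ∈ H)
    (hti : ∀ H K, F H → F K → H ≠ K → H ⊓ K = ⊥)
    (hconj : ∀ H, F H → ∀ g : Q, F (MulAut.conj g • H))
    (hncyc : ¬ IsCyclic Q) :
    (∃ p : ℕ, p.Prime ∧ Cfsg.IsElementaryAbelian p (⊤ : Subgroup Q)) ∨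
    (¬ IsMulCommutative Q ∧ (∀ H : Subgroup Q, H ≠ ⊤ → IsMulCommutative ↥H) ∧
      ∃ p q a : ℕ, p.Prime ∧ q.Prime ∧ p ≠ q ∧ Nat.card Q = p ^ a * q ∧
        ∀ P : Subgroup Q, Nat.card ↥P = p ^ a → P.Normal) := by
  classical
  -- two normal members give an elementary abelian group
  have two : ∀ B K, F B → F K → B ≠ K → B.Normal → K.Normal →
      (∃ p : ℕ, p.Prime ∧ Cfsg.IsElementaryAbelian p (⊤ : Subgroup Q)) := by
    intro B K hB hK hne' hBn hKn
    haveI := hBn
    haveI := hKn
    haveI := hab B hB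
    haveI := hab K hK
    have hd : Disjoint B K := disjoint_iff.2 (hti B K hB hK hne')
    have htop : B ⊔ K = ⊤ := ((hmax B hB).le_iff.1 le_sup_left).resolve_right fun e =>
      hne K hK (le_bot_iff.1 (hti B K hB hK hne' ▸ le_inf (e ▸ le_sup_right) le_rfl))
    have hbk : ∀ b ∈ B, ∀ k ∈ K, Commute b k := fun b hb k hk =>
      Subgroup.commute_of_normal_of_disjoint B K hBn hKn hd b k hb hk
    have hcomm : ∀ x y : Q, Commute x y := by
      intro x y
      obtain ⟨b, hb, k, hk, rfl⟩ := mem_sup_of_normal_right.1 (htop ▸ mem_top x)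
      obtain ⟨b', hb', k', hk', rfl⟩ := mem_sup_of_normal_right.1 (htop ▸ mem_top y)
      have h1 : Commute b b' := congrArg Subtype.val (mul_comm' (⟨b, hb⟩ : B) ⟨b', hb'⟩)
      have h2 : Commute k k' := congrArg Subtype.val (mul_comm' (⟨k, hk⟩ : K) ⟨k', hk'⟩)
      exact (h1.mul_right (hbk b hb k' hk')).mul_left ((hbk b' hb' k hk).symm.mul_right h2)
    have hpK := card_prime_of_inf (hmax B hB) (hne K hK) (inf_comm B K ▸ hti B K hB hK hne')
    have hpB := card_prime_of_inf (hmax K hK) (hne B hB) (hti B K hB hK hne')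
    refine ⟨Nat.card B, hpB, ⟨⟨fun x y => Subtype.ext (hcomm x y)⟩⟩, fun x _ => ?_⟩
    obtain ⟨b, hb, k, hk, rfl⟩ := mem_sup_of_normal_right.1 (htop ▸ mem_top x)
    have hb1 : b ^ Nat.card B = 1 := congrArg Subtype.val (pow_card_eq_one' (x := (⟨b, hb⟩ : B)))
    by_cases heq : Nat.card B = Nat.card K
    · rw [(hbk b hb k hk).mul_pow, hb1, heq, one_mul]
      exact congrArg Subtype.val (pow_card_eq_one' (x := (⟨k, hk⟩ : K)))
    · exfalso
      haveI := Fact.mk hpB
      haveI := Fact.mk hpK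
      obtain ⟨u, hu⟩ := exists_prime_orderOf_dvd_card' (G := B) (Nat.card B) dvd_rfl
      obtain ⟨v, hv⟩ := exists_prime_orderOf_dvd_card' (G := K) (Nat.card K) dvd_rfl
      have ho : orderOf ((u : Q) * v) = Nat.card Q := by
        rw [(hbk u u.2 v v.2).orderOf_mul_eq_mul_orderOf_of_coprime (by
            rw [Subgroup.orderOf_coe, Subgroup.orderOf_coe, hu, hv]
            exact (Nat.coprime_primes hpB hpK).2 heq),
          Subgroup.orderOf_coe, Subgroup.orderOf_coe, hu, hv,
          (Subgroup.isComplement'_of_disjoint_and_mul_eq_univ hd (by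
            rw [← Subgroup.normal_mul, htop, coe_top])).card_mul]
      exact hncyc (isCyclic_of_orderOf_eq_card _ ho)
  have hfr : ∀ H, F H → ¬ H.Normal → Cfsg.IsFrobeniusComplement H := fun H hH hn =>
    frobenius_of_nonnormal hne hmax hti hconj hH hn
  by_cases hex : ∃ H, F H ∧ ¬ H.Normal
  swap
  · push Not at hex
    left
    haveI : Nontrivial Q := not_subsingleton_iff_nontrivial.1 fun _ => hncyc inferInstance
    obtain ⟨x, hx⟩ := exists_ne (1 : Q)
    obtain ⟨B, hB, -⟩ := hcov x hx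
    obtain ⟨y, -, hy⟩ := SetLike.exists_of_lt (lt_top_iff_ne_top.2 (hmax B hB).1)
    obtain ⟨K, hK, hyK⟩ := hcov y fun e => hy (e ▸ one_mem _)
    exact two B K hB hK (fun e => hy (e ▸ hyK)) (hex B hB) (hex K hK)
  obtain ⟨H, hH, hHn⟩ := hex
  have hHf := hfr H hH hHn
  -- a member not conjugate to `H`
  obtain ⟨x, hxF, hx1⟩ : ∃ x ∈ Cfsg.frobeniusKernel H, x ≠ 1 := by
    by_contra hall
    push Not at hall
    have h1 : Nat.card (Cfsg.frobeniusKernel H) ≤ 1 := by
      haveI : Subsingleton (Cfsg.frobeniusKernel H) :=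
        ⟨fun a b => Subtype.ext ((hall a a.2).trans (hall b b.2).symm)⟩
      exact Finite.card_le_one_iff_subsingleton.2 inferInstance
    rw [Frobenius.card_frobeniusKernel hHf] at h1
    exact (hmax H hH).1 (Subgroup.index_eq_one.1 (le_antisymm h1
      (Nat.one_le_iff_ne_zero.2 Subgroup.index_ne_zero_of_finite)))
  obtain ⟨B, hB, hxB⟩ := hcov x hx1
  have hBn : B.Normal := by
    by_contra hBn
    have hBf := hfr B hB hBn
    have hun : Cfsg.frobeniusKernel H ∪ Cfsg.frobeniusKernel B = Set.univ := by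
      refine Set.eq_univ_of_forall fun y => ?_
      by_contra hy
      simp only [Set.mem_union, Cfsg.frobeniusKernel, Set.mem_ofPred_eq, not_or, not_not,
        not_forall, exists_prop] at hy
      obtain ⟨⟨hy1, g, hg⟩, -, k, hk⟩ := hy
      have he : MulAut.conj g • H = MulAut.conj k • B := by
        by_contra hne'
        have := hti _ _ (hconj H hH g) (hconj B hB k) hne'
        exact hy1 (Subgroup.mem_bot.1 (this ▸ ⟨hg, hk⟩))
      rcases hxF with h1 | h1
      · exact hx1 h1
      · refine h1 (k⁻¹ * g) ?_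
        rw [map_mul, mul_smul, he, ← mul_smul, ← map_mul, inv_mul_cancel, map_one, one_smul]
        exact hxB
    have h1 := Set.ncard_union_add_ncard_inter (Cfsg.frobeniusKernel H) (Cfsg.frobeniusKernel B)
    have h2 : 1 ≤ (Cfsg.frobeniusKernel H ∩ Cfsg.frobeniusKernel B).ncard := by
      exact (Set.ncard_pos (Set.toFinite _)).2 ⟨1, Or.inl rfl, Or.inl rfl⟩
    rw [hun, Set.ncard_univ, ← Nat.card_coe_set_eq (Cfsg.frobeniusKernel H),
      ← Nat.card_coe_set_eq (Cfsg.frobeniusKernel B), Frobenius.card_frobeniusKernel hHf,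
      Frobenius.card_frobeniusKernel hBf] at h1
    have h3 : 2 ≤ Nat.card H := (Subgroup.one_lt_card_iff_ne_bot H).2 hHf.1
    have h4 : 2 ≤ Nat.card B := (Subgroup.one_lt_card_iff_ne_bot B).2 hBf.1
    have h5 := H.card_mul_index
    have h6 := B.card_mul_index
    have h7 := Nat.mul_le_mul_right H.index h3
    have h8 := Nat.mul_le_mul_right B.index h4
    omega
  haveI := hBn
  haveI := hab B hB
  haveI := hab H hH
  have hHB : H ⊓ B = ⊥ := hti H B hH hB fun e => hHn (e ▸ hBn)
  have hr := card_prime_of_inf (hmax B hB) hHf.1 hHB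
  have htop : B ⊔ H = ⊤ := ((hmax B hB).le_iff.1 le_sup_left).resolve_right fun e =>
    hHf.1 (le_bot_iff.1 (hHB ▸ le_inf le_rfl (e ▸ le_sup_right)))
  have hcompl : B.IsComplement' H := Subgroup.isComplement'_of_disjoint_and_mul_eq_univ
    (disjoint_iff.2 (inf_comm H B ▸ hHB)) (by rw [← Subgroup.normal_mul, htop, coe_top])
  have hindex : B.index = Nat.card H := hcompl.symm.index_eq_card
  -- `B` is a minimal normal subgroup
  have hmin : ∀ W : Subgroup Q, W.Normal → W ≤ B → W = ⊥ ∨ W = B := by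
    intro W hW hWB
    haveI := hW
    rcases (hmax H hH).le_iff.1 (le_sup_left : H ≤ H ⊔ W) with e | e
    · right
      refine le_antisymm hWB fun b hb => ?_
      obtain ⟨h, hh, w, hw, hhw⟩ := mem_sup_of_normal_right.1 (e ▸ mem_top b)
      have : h ∈ H ⊓ B := Subgroup.mem_inf.2 ⟨hh, by
        have : h = b * w⁻¹ := by rw [← hhw, mul_inv_cancel_right]
        exact this ▸ mul_mem hb (inv_mem (hWB hw))⟩
      rw [hHB, mem_bot] at this
      rw [← hhw, this, one_mul]
      exact hw
    · left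
      exact le_bot_iff.1 (hHB ▸ le_inf (e ▸ le_sup_right) hWB)
  haveI : Group.IsSolvable B := Group.isSolvable_of_comm (G := B) fun a b => mul_comm' a b
  obtain ⟨-, p, hp, hpexp, hpB⟩ := Solvable.minimal_normal_elementary (hne B hB) hmin inferInstance
  haveI := Fact.mk hp
  obtain ⟨a, ha⟩ := IsPGroup.iff_card.1 hpB
  have hcard : Nat.card Q = p ^ a * Nat.card H := by rw [← hcompl.card_mul, ha]
  have hpr : p ≠ Nat.card H := by
    intro e
    have hQ : IsPGroup p Q := IsPGroup.iff_card.2 ⟨a + 1, by rw [hcard, ← e, pow_succ]⟩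
    haveI := hQ.isNilpotent
    exact hHn (Subgroup.NormalizerCondition.normal_of_coatom H Group.normalizerCondition_of_isNilpotent
      (hmax H hH))
  right
  refine ⟨fun hc => hHn (Subgroup.normal_of_isMulCommutative H), fun L hL => ?_,
    p, Nat.card H, a, hp, hr, hpr, hcard, fun P hP => ?_⟩
  · by_cases hLB : L ≤ B
    · refine ⟨⟨fun u v => Subtype.ext ?_⟩⟩
      exact congrArg (fun t : B => (t : Q)) (mul_comm' (⟨u, hLB u.2⟩ : B) ⟨v, hLB v.2⟩)
    obtain ⟨y, hyL, hyB⟩ := SetLike.not_le_iff_exists.1 hLB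
    have htop' : zpowers y ⊔ B = ⊤ := ((hmax B hB).le_iff.1 le_sup_right).resolve_right
      fun e => hyB (e ▸ mem_sup_left (mem_zpowers y))
    have hn : (L ⊓ B).Normal := by
      refine ⟨fun w hw g => ?_⟩
      obtain ⟨c, hc, b, hb, rfl⟩ := mem_sup_of_normal_right.1 (htop' ▸ mem_top g)
      have hbw : Commute b w := congrArg Subtype.val (mul_comm' (⟨b, hb⟩ : B) ⟨w, hw.2⟩)
      have : c * b * w * (c * b)⁻¹ = c * w * c⁻¹ := by
        rw [mul_assoc c b w, hbw.eq]; group
      rw [this]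
      exact Subgroup.mem_inf.2 ⟨mul_mem (mul_mem (zpowers_le.2 hyL hc) hw.1) (inv_mem (zpowers_le.2 hyL hc)),
        hBn.conj_mem w hw.2 c⟩
    rcases hmin _ hn inf_le_right with e | e
    · have hLy : L = zpowers y := eq_zpowers_of_inf (hmax B hB) e hyL fun e' => hyB (e' ▸ one_mem _)
      rw [hLy]
      infer_instance
    · exfalso
      refine hL (top_le_iff.1 (htop' ▸ sup_le (zpowers_le.2 hyL) ?_))
      exact inf_eq_right.1 e
  · have hPB : P ≤ B := by
      intro w hw
      rw [← QuotientGroup.eq_one_iff, ← orderOf_eq_one_iff]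
      have h1 : orderOf (w : Q ⧸ B) ∣ p ^ a :=
        (orderOf_map_dvd (QuotientGroup.mk' B) w).trans (hP ▸ Subgroup.orderOf_dvd_natCard P hw)
      have h2 : orderOf (w : Q ⧸ B) ∣ Nat.card H := by
        rw [← hindex, Subgroup.index]
        exact orderOf_dvd_natCard _
      exact Nat.eq_one_of_dvd_coprimes (((Nat.coprime_primes hp hr).2 hpr).pow_left a) h1 h2
    rw [Subgroup.eq_of_le_of_card_ge hPB (by rw [hP, ha])]
    exact hBn

end Partition

section Sylow

open scoped IsMulCommutative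

variable {Q : Type u} [Group Q] [Finite Q] [Group.IsSolvable Q] {p : ℕ} [Fact p.Prime]

omit [Group.IsSolvable Q] [Finite Q] in
theorem conjNormal_pow_prod {Y : Subgroup Q} [Y.Normal] [IsMulCommutative Y] (s : Q) (y : Y) :
    ∀ n : ℕ, ((y : Q) * s) ^ n =
      ((∏ i ∈ Finset.range n, MulAut.conjNormal (s ^ i) y : Y) : Q) * s ^ n := by
  intro n
  induction n with
  | zero => simp
  | succ n ih =>
    rw [pow_succ (((y : Q) * s)), ih, Finset.prod_range_succ, Subgroup.coe_mul,
      MulAut.conjNormal_apply, pow_succ s]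
    group

/-- A solvable group has no nonnormal noncyclic maximal `p`-subgroup of exponent `p` in which no
nontrivial `p`-element commutes with a nontrivial `p'`-element. -/
theorem no_maximal_sylow {M : Subgroup Q} (hmax : IsCoatom M) (hMn : ¬ M.Normal) (hMp : IsPGroup p M)
    (hexp : ∀ x ∈ M, x ^ p = 1) (hncyc : ¬ IsCyclic M)
    (hW : ∀ s k : Q, (∃ j, orderOf s = p ^ j) → s ≠ 1 → (orderOf k).Coprime p → Commute s k → k = 1) :
    False := by
  classical
  have hp : p.Prime := Fact.out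
  have hMord : ∀ x ∈ M, ∃ j, orderOf x = p ^ j := fun x hx => by
    obtain ⟨j, -, hj⟩ := (Nat.dvd_prime_pow hp).1
      (orderOf_dvd_of_pow_eq_one (by rw [pow_one]; exact hexp x hx) : orderOf x ∣ p ^ 1)
    exact ⟨j, hj⟩
  set R := Cfsg.pCore p Q with hR
  have hRp : IsPGroup p R := Solvable.isPGroup_pCore p
  have hRM : R ≤ M := by
    rcases hmax.le_iff.1 (le_sup_left : M ≤ M ⊔ R) with e | e
    · exfalso
      have hpQ : IsPGroup p (⊤ : Subgroup Q) := e ▸ hMp.to_sup_of_normal_right hRp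
      haveI := (hpQ.of_equiv Subgroup.topEquiv).isNilpotent
      exact hMn (Subgroup.NormalizerCondition.normal_of_coatom M
        Group.normalizerCondition_of_isNilpotent hmax)
    · exact e ▸ le_sup_right
  by_cases hR1 : R = ⊥
  · -- a `p'`-group `V` on which `M` acts without fixed points
    haveI : Nontrivial Q := by
      by_contra hc
      rw [not_nontrivial_iff_subsingleton] at hc
      exact hmax.1 (Subsingleton.elim _ _)
    obtain ⟨V, hVn, hV1, -, hVmin⟩ := Solvable.exists_minimal_normal_le (N := (⊤ : Subgroup Q))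
      (by simp)
    haveI := hVn
    obtain ⟨hVc, q, hq, hVexp, hVq⟩ := Solvable.minimal_normal_elementary hV1 hVmin inferInstance
    haveI := hVc
    have hqp : q ≠ p := by
      intro e
      subst e
      exact hV1 (le_bot_iff.1 (hR1 ▸ Solvable.le_pCore q hVn hVq))
    haveI := Fact.mk hq
    have hVco : ∀ v ∈ V, (orderOf v).Coprime p := fun v hv =>
      Nat.Coprime.coprime_dvd_left
        (orderOf_dvd_of_pow_eq_one (hVexp v hv)) ((Nat.coprime_primes hq hp).2 hqp)
    haveI : Nontrivial M := by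
      rw [Subgroup.nontrivial_iff_ne_bot]
      intro e
      exact hMn (e ▸ inferInstance)
    haveI := hMp.center_nontrivial
    obtain ⟨⟨⟨a, haM⟩, hac⟩, ha1⟩ := exists_ne (1 : center M)
    have ha1' : a ≠ 1 := fun e => ha1 (Subtype.ext (Subtype.ext e))
    obtain ⟨b, hbM, hb⟩ : ∃ b ∈ M, b ∉ zpowers a := by
      by_contra hall
      push Not at hall
      exact hncyc ((le_antisymm hall (zpowers_le.2 haM) : M = zpowers a) ▸ inferInstance)
    have hab : Commute a b :=
      (congrArg Subtype.val (Subgroup.mem_center_iff.1 hac ⟨b, hbM⟩)).symm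
    let act : Q →* MulAut V := MulAut.conjNormal
    have hN : ∀ s ∈ M, s ≠ 1 → ∀ v : V, ∏ i ∈ Finset.range p, act (s ^ i) v = 1 := by
      intro s hs hs1 v
      by_contra hne
      set N := ∏ i ∈ Finset.range p, act (s ^ i) v with hNdef
      have hfix : act s N = N := by
        have h1 : ∀ i : ℕ, act s (act (s ^ i) v) = act (s ^ (i + 1)) v := fun i => by
          rw [pow_succ', map_mul, MulAut.mul_apply]
        have h2 := (Finset.prod_range_succ (fun i => act (s ^ i) v) p).symm.trans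
          (Finset.prod_range_succ' (fun i => act (s ^ i) v) p)
        simp only [pow_zero, hexp s hs] at h2
        rw [hNdef, map_prod, Finset.prod_congr rfl fun i _ => h1 i]
        exact (mul_right_cancel h2).symm
      have hcm : Commute s (N : Q) := by
        have := congrArg Subtype.val hfix
        rw [MulAut.conjNormal_apply] at this
        exact mul_inv_eq_iff_eq_mul.1 this
      exact hne (Subtype.ext (hW s N (hMord s hs) hs1 (hVco N N.2) hcm))
    have habM : ∀ i : ℕ, a ^ i * b ∈ M ∧ a ^ i * b ≠ 1 := fun i =>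
      ⟨mul_mem (pow_mem haM i) hbM, fun e => hb (by
        rw [eq_inv_of_mul_eq_one_right e]
        exact inv_mem (pow_mem (mem_zpowers a) i))⟩
    refine hV1 ((Subgroup.eq_bot_iff_forall V).2 fun v hv => ?_)
    have h1 : ∏ i ∈ Finset.range p, ∏ j ∈ Finset.range p, act ((a ^ i * b) ^ j) (⟨v, hv⟩ : V) = 1 :=
      Finset.prod_eq_one fun i _ => hN _ (habM i).1 (habM i).2 _
    rw [Finset.prod_comm, Finset.prod_eq_single 0] at h1
    · simp only [pow_zero, map_one, MulAut.one_apply, Finset.prod_const, Finset.card_range] at h1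
      have hvp : v ^ p = 1 := congrArg Subtype.val h1
      exact orderOf_eq_one_iff.1
        (Nat.eq_one_of_dvd_coprimes (hVco v hv).symm (orderOf_dvd_of_pow_eq_one hvp) dvd_rfl)
    · intro j hj hj0
      have hj1 : a ^ j ≠ 1 := by
        intro e
        have h2 : orderOf a = p := orderOf_eq_prime (hexp a haM) ha1'
        have := h2 ▸ orderOf_dvd_of_pow_eq_one e
        exact absurd (Nat.le_of_dvd (Nat.pos_of_ne_zero hj0) this) (not_le.2 (Finset.mem_range.1 hj))
      rw [← hN (a ^ j) (pow_mem haM j) hj1 (act (b ^ j) ⟨v, hv⟩)]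
      refine Finset.prod_congr rfl fun i _ => ?_
      rw [(hab.pow_left i).mul_pow, map_mul, MulAut.mul_apply, ← pow_mul, ← pow_mul, Nat.mul_comm]
    · exact fun hh => absurd (Finset.mem_range.2 hp.pos) hh
  · -- a `p'`-subgroup `K₀` normalized by an element outside `R`
    have hRtop : R ≠ ⊤ := fun e => hmax.1 (top_le_iff.1 (e ▸ hRM))
    haveI : R.Normal := Solvable.pCore_normal p
    haveI : Nontrivial (Q ⧸ R) := QuotientGroup.nontrivial_iff.2 hRtop
    obtain ⟨V, hVn, hV1, -, hVmin⟩ :=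
      Solvable.exists_minimal_normal_le (N := (⊤ : Subgroup (Q ⧸ R))) (by simp)
    haveI := hVn
    obtain ⟨-, q, hq, -, hVq⟩ := Solvable.minimal_normal_elementary hV1 hVmin inferInstance
    have hsurj := QuotientGroup.mk'_surjective R
    set L := V.comap (QuotientGroup.mk' R) with hL
    haveI : L.Normal := hVn.comap _
    have hqp : q ≠ p := by
      intro e
      subst e
      have hLp : IsPGroup q L := hVq.comap_of_ker_isPGroup _ (by rw [QuotientGroup.ker_mk']; exact hRp)
      apply hV1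
      rw [← map_comap_eq_self_of_surjective hsurj V, Subgroup.map_eq_bot_iff, QuotientGroup.ker_mk']
      exact Solvable.le_pCore q inferInstance hLp
    haveI := Fact.mk hq
    obtain ⟨S⟩ : Nonempty (Sylow q L) := inferInstance
    set K := (S : Subgroup L).map L.subtype with hK
    let f : L →* V := (QuotientGroup.mk' R).subgroupComap V
    have hf : Function.Surjective f := by
      rintro ⟨x, hx⟩
      obtain ⟨g, rfl⟩ := hsurj x
      exact ⟨⟨g, hx⟩, rfl⟩
    have hmapS : (S : Subgroup L).map f = ⊤ := by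
      rw [← Subgroup.index_eq_one]
      obtain ⟨n, hn⟩ := IsPGroup.iff_card.1 hVq
      obtain ⟨i, -, hi⟩ := (Nat.dvd_prime_pow hq).1
        (hn ▸ Subgroup.index_dvd_card ((S : Subgroup L).map f))
      rcases Nat.eq_zero_or_pos i with e | e
      · rw [hi, e, pow_zero]
      · exact absurd ((dvd_pow_self q (Nat.pos_iff_ne_zero.1 e)).trans
          (hi ▸ Subgroup.index_map_dvd (S : Subgroup L) hf)) S.not_dvd_index
    have hKq : ∀ k ∈ K, (orderOf k).Coprime p := by
      rintro _ ⟨k, hk, rfl⟩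
      obtain ⟨n, hn⟩ := IsPGroup.iff_orderOf.1 S.2 ⟨k, hk⟩
      rw [Subgroup.coe_subtype, Subgroup.orderOf_coe, ← Subgroup.orderOf_mk k hk, hn]
      exact ((Nat.coprime_primes hq hp).2 hqp).pow_left n
    have hK1 : K ≠ ⊥ := by
      intro e
      rw [hK, Subgroup.map_eq_bot_iff_of_injective _ L.subtype_injective] at e
      rw [e, Subgroup.map_bot] at hmapS
      haveI := (nontrivial_iff_ne_bot V).2 hV1
      exact bot_ne_top hmapS
    have hLK : L ≤ K ⊔ R := by
      intro l hl
      obtain ⟨k, hk, hkl⟩ : f ⟨l, hl⟩ ∈ (S : Subgroup L).map f := hmapS ▸ mem_top _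
      have : ((k : Q))⁻¹ * l ∈ R := by
        rw [← QuotientGroup.eq]
        exact congrArg Subtype.val hkl
      rw [show l = (k : Q) * ((k : Q)⁻¹ * l) by group]
      exact mul_mem (mem_sup_left ⟨k, hk, rfl⟩) (mem_sup_right this)
    have htop : normalizer (K : Set Q) ⊔ R = ⊤ := top_le_iff.1 (by
      rw [← Sylow.normalizer_sup_eq_top S]
      exact sup_le le_sup_left
        (hLK.trans (sup_le (le_normalizer.trans le_sup_left) le_sup_right)))
    obtain ⟨g, hgM, hgR⟩ := SetLike.exists_of_lt (lt_of_le_of_ne hRM fun e => hMn (e ▸ inferInstance))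
    obtain ⟨m, hmN, r, hr, hmr⟩ := mem_sup_of_normal_right.1 (htop ▸ mem_top g)
    have hmM : m ∈ M := by
      have : m = g * r⁻¹ := by rw [← hmr, mul_inv_cancel_right]
      exact this ▸ mul_mem hgM (inv_mem (hRM hr))
    have hm1 : m ≠ 1 := fun e => hgR (by rw [← hmr, e, one_mul]; exact hr)
    obtain ⟨Y, hYn, hY1, hYR, hYmin⟩ := Solvable.exists_minimal_normal_le (N := R) hR1
    haveI := hYn
    obtain ⟨hYc, -⟩ := Solvable.minimal_normal_elementary hY1 hYmin inferInstance
    haveI := hYc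
    haveI := Fintype.ofFinite K
    let act : Q →* MulAut Y := MulAut.conjNormal
    refine hY1 ((Subgroup.eq_bot_iff_forall Y).2 fun y hy => ?_)
    have hn : ∀ k : K, ∏ i ∈ Finset.range p, act (((k : Q) * m * (k : Q)⁻¹) ^ i) (⟨y, hy⟩ : Y) = 1 := by
      intro k
      set s := (k : Q) * m * (k : Q)⁻¹
      have hsp : s ^ p = 1 := by rw [conj_pow, hexp m hmM, mul_one, mul_inv_cancel]
      have hys : (y * s) ^ p = 1 := by
        have hy' : (k : Q)⁻¹ * y * k ∈ M := hRM (hYR (by simpa using hYn.conj_mem y hy (k : Q)⁻¹))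
        rw [show y * s = (k : Q) * ((k : Q)⁻¹ * y * k * m) * (k : Q)⁻¹ by simp only [s]; group,
          conj_pow, hexp _ (mul_mem hy' hmM), mul_one, mul_inv_cancel]
      refine Subtype.ext ?_
      have := conjNormal_pow_prod s (⟨y, hy⟩ : Y) p
      rw [hys, hsp, mul_one] at this
      exact this.symm
    have hfix : ∀ i : ℕ, i < p → i ≠ 0 → ∀ w : Y, ∏ k : K, act ((k : Q) * m ^ i * (k : Q)⁻¹) w = 1 := by
      intro i hi hi0 w
      have hmi : m ^ i ≠ 1 := fun e => by
        have h2 : orderOf m = p := orderOf_eq_prime (hexp m hmM) hm1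
        have := h2 ▸ orderOf_dvd_of_pow_eq_one e
        exact absurd (Nat.le_of_dvd (Nat.pos_of_ne_zero hi0) this) (not_le.2 hi)
      have hmK : ∀ k : K, m ^ i * (k : Q) * (m ^ i)⁻¹ ∈ K := fun k =>
        (Subgroup.mem_normalizer_iff.1 (pow_mem hmN i) k).1 k.2
      let φ : K → K := fun k => k * ⟨m ^ i * ((k⁻¹ : K) : Q) * (m ^ i)⁻¹, hmK k⁻¹⟩
      have hφ : Function.Bijective φ := by
        refine Finite.injective_iff_bijective.1 fun k₁ k₂ e => ?_
        have e' := congrArg Subtype.val e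
        simp only [φ, Subgroup.coe_mul, Subgroup.coe_inv] at e'
        have hc : Commute (m ^ i) ((k₂ : Q)⁻¹ * k₁) := by
          show m ^ i * ((k₂ : Q)⁻¹ * k₁) = (k₂ : Q)⁻¹ * k₁ * m ^ i
          calc m ^ i * ((k₂ : Q)⁻¹ * k₁)
              = (k₂ : Q)⁻¹ * ((k₂ : Q) * (m ^ i * (k₂ : Q)⁻¹ * (m ^ i)⁻¹)) * (m ^ i * k₁) := by group
            _ = (k₂ : Q)⁻¹ * ((k₁ : Q) * (m ^ i * (k₁ : Q)⁻¹ * (m ^ i)⁻¹)) * (m ^ i * k₁) := by rw [e']
            _ = (k₂ : Q)⁻¹ * k₁ * m ^ i := by group
        exact Subtype.ext (inv_mul_eq_one.1 (hW _ _ (hMord _ (pow_mem hmM i)) hmi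
          (hKq _ (mul_mem (inv_mem k₂.2) k₁.2)) hc)).symm
      have e1 : ∏ k : K, act ((k : Q) * m ^ i * (k : Q)⁻¹) w =
          ∏ k : K, act (k : Q) (act (m ^ i) w) := by
        refine Fintype.prod_bijective φ hφ _ _ fun k => ?_
        rw [← MulAut.mul_apply, ← map_mul]
        simp only [φ, Subgroup.coe_mul, Subgroup.coe_inv]
        congr 2
        group
      rw [e1]
      set N := ∏ k : K, act (k : Q) (act (m ^ i) w) with hNdef
      by_contra hne
      haveI := (Subgroup.nontrivial_iff_ne_bot K).2 hK1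
      obtain ⟨⟨k₀, hk₀⟩, hk₀1⟩ := exists_ne (1 : K)
      have hfix : act k₀ N = N := by
        rw [hNdef, map_prod]
        refine Fintype.prod_equiv (Equiv.mulLeft (⟨k₀, hk₀⟩ : K)) _ _ fun k => ?_
        rw [← MulAut.mul_apply, ← map_mul]
        rfl
      have hcm : Commute k₀ (N : Q) := by
        have := congrArg Subtype.val hfix
        rw [MulAut.conjNormal_apply] at this
        exact mul_inv_eq_iff_eq_mul.1 this
      refine hk₀1 (Subtype.ext ?_)
      exact hW (N : Q) k₀ (hMord _ (hRM (hYR N.2))) (fun e => hne (Subtype.ext e))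
        (hKq _ hk₀) hcm.symm
    have h1 : ∏ i ∈ Finset.range p, ∏ k : K, act ((k : Q) * m ^ i * (k : Q)⁻¹) (⟨y, hy⟩ : Y) = 1 := by
      rw [Finset.prod_comm]
      refine Finset.prod_eq_one fun k _ => ?_
      refine Eq.trans ?_ (hn k)
      exact Finset.prod_congr rfl fun i _ => by rw [conj_pow]
    rw [Finset.prod_eq_single 0 (fun i hi hi0 => hfix i (Finset.mem_range.1 hi) hi0 _)
      (fun hh => absurd (Finset.mem_range.2 hp.pos) hh)] at h1
    simp only [pow_zero, mul_one, mul_inv_cancel, map_one, MulAut.one_apply, Finset.prod_const,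
      Finset.card_univ] at h1
    have hyn : y ^ Fintype.card K = 1 := congrArg Subtype.val h1
    obtain ⟨n, hn'⟩ := IsPGroup.iff_card.1 (S.2.map L.subtype)
    rw [← Nat.card_eq_fintype_card, hK, hn'] at hyn
    obtain ⟨j, hj⟩ := hMord y (hRM (hYR hy))
    exact orderOf_eq_one_iff.1 (Nat.eq_one_of_dvd_coprimes
      (((Nat.coprime_primes hp hq).2 hqp.symm).pow j n) (hj ▸ dvd_rfl) (orderOf_dvd_of_pow_eq_one hyn))

end Sylow

section Main

variable {G : Type u} [Group G] [Finite G] (h : ∀ g : G, g ∉ Subgroup.center G → IsCoatom (C g))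
include h

local notation "π" => QuotientGroup.mk' (Subgroup.center G)

/-- The all abelian case. -/
theorem abelian_structure (hna : ¬ IsMulCommutative G)
    (hab : ∀ g : G, g ∉ center G → IsMulCommutative (C g)) :
    (∃ p : ℕ, p.Prime ∧ Cfsg.IsElementaryAbelian p (⊤ : Subgroup (G ⧸ Subgroup.center G))) ∨
    (¬ IsMulCommutative (G ⧸ Subgroup.center G) ∧
      (∀ H : Subgroup (G ⧸ Subgroup.center G), H ≠ ⊤ → IsMulCommutative ↥H) ∧
      ∃ p q a : ℕ, p.Prime ∧ q.Prime ∧ p ≠ q ∧ Nat.card (G ⧸ Subgroup.center G) = p ^ a * q ∧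
        ∀ P : Subgroup (G ⧸ Subgroup.center G), Nat.card ↥P = p ^ a → P.Normal) := by
  have hcm : ∀ g : G, ((C g).map π).comap π = C g := fun g => Subgroup.comap_map_eq_self (by
    rw [QuotientGroup.ker_mk']; exact Subgroup.center_le_centralizer _)
  have hle : ∀ g w : G, g ∉ center G → w ∈ C g → C g ≤ C w := by
    intro g w hg hw z hz
    haveI := hab g hg
    exact mem_C.2 (congrArg Subtype.val (mul_comm' (⟨w, hw⟩ : C g) ⟨z, hz⟩))
  refine partition_structure (F := fun K => ∃ g : G, g ∉ center G ∧ K = (C g).map π)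
    ?_ ?_ ?_ ?_ ?_ ?_ ?_
  · rintro _ ⟨g, hg, rfl⟩ e
    have := mem_map_of_mem π (self_mem_C g)
    rw [e, mem_bot] at this
    exact hg ((QuotientGroup.eq_one_iff g).1 this)
  · rintro _ ⟨g, hg, rfl⟩
    refine ⟨fun e => (h g hg).1 ?_, fun K hK => ?_⟩
    · rw [← hcm g, e, comap_top]
    · have hlt : C g < K.comap π := by
        rw [← hcm g]
        exact (Subgroup.comap_lt_comap_of_surjective (QuotientGroup.mk'_surjective _)).2 hK
      rw [← map_comap_eq_self_of_surjective (QuotientGroup.mk'_surjective _) K, (h g hg).2 _ hlt,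
        map_top_of_surjective _ (QuotientGroup.mk'_surjective _)]
  · rintro _ ⟨g, hg, rfl⟩
    refine ⟨⟨?_⟩⟩
    rintro ⟨_, u, hu, rfl⟩ ⟨_, v, hv, rfl⟩
    refine Subtype.ext ?_
    show π u * π v = π v * π u
    rw [← map_mul, ← map_mul, (mem_C.1 (hle g u hg hu hv)).eq]
  · intro x hx
    obtain ⟨g, rfl⟩ := QuotientGroup.mk_surjective x
    exact ⟨_, ⟨g, fun hg => hx ((QuotientGroup.eq_one_iff g).2 hg), rfl⟩,
      mem_map_of_mem π (self_mem_C g)⟩
  · rintro _ _ ⟨g, hg, rfl⟩ ⟨g', hg', rfl⟩ hne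
    refine (Subgroup.eq_bot_iff_forall _).2 ?_
    rintro _ ⟨⟨u, hu, rfl⟩, hu'⟩
    by_contra hu1
    have huc : u ∉ center G := fun hc => hu1 ((QuotientGroup.eq_one_iff u).2 hc)
    have hu'' : u ∈ C g' := hcm g' ▸ (hu' : u ∈ ((C g').map π).comap π)
    exact hne (by rw [eq_of_le h hg huc (hle g u hg hu), eq_of_le h hg' huc (hle g' u hg' hu'')])
  · rintro _ ⟨g, hg, rfl⟩ x
    obtain ⟨a, rfl⟩ := QuotientGroup.mk_surjective x
    refine ⟨a * g * a⁻¹, fun hc => hg ?_, ?_⟩
    · simpa [mul_assoc] using (inferInstance : (center G).Normal).conj_mem _ hc a⁻¹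
    · ext y
      simp only [Subgroup.mem_pointwise_smul_iff_inv_smul_mem, MulAut.smul_def, MulAut.inv_def,
        MulAut.conj_symm_apply]
      obtain ⟨b, rfl⟩ := QuotientGroup.mk_surjective y
      have e1 : ∀ c d : G, (QuotientGroup.mk c : G ⧸ center G) ∈ (C d).map π ↔ Commute d c :=
        fun c d => by
          rw [← mem_C]
          exact iff_of_eq (congrArg (fun K : Subgroup G => c ∈ K) (hcm d))
      rw [← QuotientGroup.mk_inv, ← QuotientGroup.mk_mul, ← QuotientGroup.mk_mul, e1, e1]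
      constructor
      · intro hc
        simpa [mul_assoc] using hc.map (MulAut.conj a).toMonoidHom
      · intro hc
        simpa [mul_assoc] using hc.map (MulAut.conj a⁻¹).toMonoidHom
  · exact fun hc => hna (isMulCommutative_of_isCyclic_quotient_center_self G)

/-- A group with all centralizers normal. -/
theorem pgroup_structure (hna : ¬ IsMulCommutative G) {p : ℕ} [Fact p.Prime]
    (hp : IsPGroup p (G ⧸ center G)) :
    Cfsg.IsElementaryAbelian p (⊤ : Subgroup (G ⧸ Subgroup.center G)) := by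
  haveI : Group.IsNilpotent G := Group.of_quotient_center_nilpotent hp.isNilpotent
  have hpr : p.Prime := Fact.out
  have hkey : ∀ g : G, g ∉ center G → ∀ a b : G, a ^ p ∈ C g ∧ a * b * a⁻¹ * b⁻¹ ∈ C g := by
    intro g hg a b
    have hn : (C g).Normal :=
      Subgroup.NormalizerCondition.normal_of_coatom _ Group.normalizerCondition_of_isNilpotent (h g hg)
    haveI := hn
    have hq : IsPGroup p (G ⧸ C g) := hp.of_surjective
      (QuotientGroup.map (center G) (C g) (MonoidHom.id G)
        (Subgroup.center_le_centralizer _ |>.trans (Subgroup.comap_id _).ge))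
      (QuotientGroup.map_surjective_of_surjective (center G) (C g) _
        (QuotientGroup.mk_surjective) _)
    obtain ⟨z, hz, hzq⟩ : ∃ z : G, z ∉ C g ∧ z ^ p ∈ C g := by
      obtain ⟨w, -, hw⟩ := SetLike.exists_of_lt (lt_top_iff_ne_top.2 (h g hg).1)
      obtain ⟨k, hk⟩ := hq (w : G ⧸ C g)
      rw [← QuotientGroup.mk_pow, QuotientGroup.eq_one_iff] at hk
      induction k generalizing w with
      | zero => exact absurd (by simpa using hk) hw
      | succ k ih =>
        by_cases hwp : w ^ p ∈ C g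
        · exact ⟨w, hw, hwp⟩
        · exact ih (w ^ p) hwp (by rwa [← pow_mul, ← pow_succ'])
    have htop : zpowers z ⊔ C g = ⊤ := ((h g hg).le_iff.1 le_sup_right).resolve_right
      fun e => hz (e ▸ mem_sup_left (mem_zpowers z))
    have hgen : ∀ w : G, ∃ i : ℤ, (w : G ⧸ C g) = (z : G ⧸ C g) ^ i := by
      intro w
      obtain ⟨_, ⟨i, rfl⟩, c, hc, rfl⟩ := mem_sup_of_normal_right.1 (htop ▸ mem_top w)
      exact ⟨i, by rw [QuotientGroup.mk_mul, (QuotientGroup.eq_one_iff c).2 hc, mul_one]; rfl⟩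
    obtain ⟨i, hi⟩ := hgen a
    obtain ⟨j, hj⟩ := hgen b
    constructor
    · rw [← QuotientGroup.eq_one_iff, QuotientGroup.mk_pow, hi, ← zpow_natCast, ← zpow_mul,
        mul_comm, zpow_mul, zpow_natCast, ← QuotientGroup.mk_pow,
        (QuotientGroup.eq_one_iff _).2 hzq, one_zpow]
    · rw [← QuotientGroup.eq_one_iff]
      simp only [QuotientGroup.mk_mul, QuotientGroup.mk_inv, hi, hj]
      group
  have hcen : ∀ x : G, (∀ g : G, g ∉ center G → x ∈ C g) → x ∈ center G := by
    intro x hx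
    refine Subgroup.mem_center_iff.2 fun g => ?_
    by_cases hg : g ∈ center G
    · exact (Subgroup.mem_center_iff.1 hg x).symm
    · exact (mem_C.1 (hx g hg)).eq
  refine ⟨⟨⟨?_⟩⟩, ?_⟩
  · rintro ⟨x, -⟩ ⟨y, -⟩
    obtain ⟨a, rfl⟩ := QuotientGroup.mk_surjective x
    obtain ⟨b, rfl⟩ := QuotientGroup.mk_surjective y
    refine Subtype.ext ?_
    have h1 := (QuotientGroup.eq_one_iff _).2 (hcen _ fun g hg => (hkey g hg a b).2)
    simp only [QuotientGroup.mk_mul, QuotientGroup.mk_inv] at h1
    exact commutatorElement_eq_one_iff_mul_comm.1 h1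
  · intro x _
    obtain ⟨a, rfl⟩ := QuotientGroup.mk_surjective x
    rw [← QuotientGroup.mk_pow, QuotientGroup.eq_one_iff]
    exact hcen _ fun g hg => (hkey g hg a a).1

/-- `p'`-elements of a nonabelian centralizer of a noncentral `p`-element are central. -/
theorem coprime_central {p : ℕ} [Fact p.Prime] {a : G} (ha : a ∉ center G)
    (hap : ∃ k, orderOf a = p ^ k) (hab : ¬ IsMulCommutative (C a)) {w : G} (hw : w ∈ C a)
    (hwp : (orderOf w).Coprime p) : w ∈ center G := by
  obtain ⟨e, he⟩ := hap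
  have hco : ∀ {y : G}, (orderOf y).Coprime p → (orderOf a).Coprime (orderOf y) := fun hy =>
    he ▸ (hy.symm.pow_left e)
  by_contra hwc
  have hC : C a = C w := eq_of_le h ha hwc fun z hz =>
    mem_C.2 (mem_C_of_coprime h ha (mem_C.1 hw) (hco hwp) hz)
  refine hab ⟨⟨fun u v => Subtype.ext ?_⟩⟩
  show (u : G) * v = v * u
  obtain ⟨x, y, hxy, hx, hy, ⟨k, hk⟩, hyp⟩ :=
    FGSBSmall.exists_prime_split (Fact.out : p.Prime) (v : G)
  have hxC : x ∈ C a := zpowers_le.2 v.2 hx
  have hyC : y ∈ C a := zpowers_le.2 v.2 hy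
  have h1 : Commute x u := mem_C_of_coprime h hwc (mem_C.1 (hC ▸ hxC))
    (hk ▸ hwp.pow_right k) (hC ▸ u.2)
  have h2 : Commute y u := mem_C_of_coprime h ha (mem_C.1 hyC) (hco hyp) u.2
  rw [← hxy]
  exact (h1.mul_left h2).symm.eq

/-- If some nonabelian centralizer is normal, then `G ⧸ Z(G)` is a `p`-group. -/
theorem isPGroup_of_normal {p : ℕ} [Fact p.Prime] {a : G} (ha : a ∉ center G)
    (hap : ∃ k, orderOf a = p ^ k) (hab : ¬ IsMulCommutative (C a)) [hn : (C a).Normal] :
    IsPGroup p (G ⧸ center G) := by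
  classical
  have hp : p.Prime := Fact.out
  by_contra hnp
  obtain ⟨y, hy, hyp⟩ : ∃ y : G, y ∉ C a ∧ (orderOf y).Coprime p := by
    by_contra hall
    push Not at hall
    refine hnp fun g => ?_
    obtain ⟨g, rfl⟩ := QuotientGroup.mk_surjective g
    obtain ⟨x, y, hxy, -, -, ⟨k, hk⟩, hyp⟩ := FGSBSmall.exists_prime_split hp g
    have hy : y ∈ C a := by
      by_contra hy
      exact hall y hy hyp
    refine ⟨k, ?_⟩
    rw [← hxy, QuotientGroup.mk_mul,
      (QuotientGroup.eq_one_iff y).2 (coprime_central h ha hap hab hy hyp), mul_one,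
      ← QuotientGroup.mk_pow, ← hk, pow_orderOf_eq_one, QuotientGroup.mk_one]
  have hyc : y ∉ center G := fun hc => hy (Subgroup.center_le_centralizer _ hc)
  have haD : a ∉ C y := fun haD => hy (mem_C.2 (mem_C.1 haD).symm)
  -- `a` normalizes nothing outside `C y`
  set A : Subgroup G := (center (C a)).map (C a).subtype with hAdef
  haveI : A.Normal := by rw [hAdef]; infer_instance
  have haA : a ∈ A := ⟨⟨a, self_mem_C a⟩, Subgroup.mem_center_iff.2 fun w => Subtype.ext
    (mem_C.1 w.2).symm.eq, rfl⟩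
  have htop : C y ⊔ A = ⊤ := ((h y hyc).le_iff.1 le_sup_left).resolve_right
    fun e => haD (e ▸ mem_sup_right haA)
  apply hab
  refine ⟨⟨fun u v => Subtype.ext ?_⟩⟩
  show (u : G) * v = v * u
  have hAC : ∀ t ∈ A, ∀ w ∈ C a, Commute t w := by
    rintro _ ⟨t, ht, rfl⟩ w hw
    exact (congrArg Subtype.val (Subgroup.mem_center_iff.1 ht ⟨w, hw⟩)).symm
  have hAle : A ≤ C a := Subgroup.map_subtype_le _
  have hDcomm : ∀ d ∈ C y, d ∈ C a → ∀ d' ∈ C y, Commute d d' := by
    intro d hd hda d' hd'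
    obtain ⟨x, w, hxw, hx, hw, ⟨k, hk⟩, hwp⟩ := FGSBSmall.exists_prime_split hp d
    have hwc := coprime_central h ha hap hab (zpowers_le.2 hda hw) hwp
    rw [← hxw]
    refine Commute.mul_left ?_ (Subgroup.mem_center_iff.1 hwc d').symm
    exact mem_C_of_coprime h hyc (mem_C.1 (zpowers_le.2 hd hx)) (hk ▸ hyp.pow_right k) hd'
  obtain ⟨d, hd, t, ht, hdt⟩ := mem_sup_of_normal_right.1 (htop ▸ mem_top (u : G))
  obtain ⟨d', hd', t', ht', hdt'⟩ := mem_sup_of_normal_right.1 (htop ▸ mem_top (v : G))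
  have hmemC : ∀ (c s : G) (w : C a), s ∈ A → c * s = w → c ∈ C a := by
    intro c s w hs hcs
    rw [show c = (w : G) * s⁻¹ by rw [← hcs, mul_inv_cancel_right]]
    exact mul_mem w.2 (inv_mem (hAle hs))
  have hdC := hmemC d t u ht hdt
  have hdC' := hmemC d' t' v ht' hdt'
  rw [← hdt, ← hdt']
  exact (((hDcomm d hd hdC d' hd').mul_right (hAC t' ht' d hdC).symm).mul_left
    ((hAC t ht d' hdC').mul_right (hAC t ht t' (hAle ht')))).eq

/-- Elements of a nonabelian centralizer of a noncentral `p`-element have central `p`-th power,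
provided the centralizer is a `p`-group modulo the centre. -/
theorem pow_mem_center {p : ℕ} [Fact p.Prime] {a : G} (ha : a ∉ center G)
    (hap : ∃ k, orderOf a = p ^ k) (hab : ¬ IsMulCommutative (C a)) {m : G} (hm : m ∈ C a) :
    m ^ p ∈ center G := by
  obtain ⟨x, hxc, hxp, hCx⟩ : ∃ x : G, x ∉ center G ∧ x ^ p ∈ center G ∧ C x = C a := by
    obtain ⟨k, hk⟩ := hap
    have hex : ∃ j, a ^ p ^ j ∈ center G := ⟨k, by rw [← hk, pow_orderOf_eq_one]; exact one_mem _⟩
    classical
    have hj0 : Nat.find hex ≠ 0 := fun e => ha (by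
      have := Nat.find_spec hex
      rwa [e, pow_zero, pow_one] at this)
    obtain ⟨j, hj⟩ := Nat.exists_eq_succ_of_ne_zero hj0
    have hjn : a ^ p ^ j ∉ center G := Nat.find_min hex (by omega)
    refine ⟨a ^ p ^ j, hjn, ?_, C_pow h ha hjn⟩
    rw [← pow_mul, ← pow_succ, ← Nat.succ_eq_add_one, ← hj]
    exact Nat.find_spec hex
  -- elements whose centralizer differs from `C a`
  have key : ∀ u ∈ C a, C u ≠ C a → u ^ p ∈ center G := by
    intro u hu hne
    by_contra hup
    have huc : u ∉ center G := fun hc => hup (pow_mem hc p)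
    have hcomm : Commute u x := (mem_C.1 (hCx.symm ▸ hu : u ∈ C x)).symm
    have hux : (u * x) ^ p = u ^ p * x ^ p := hcomm.mul_pow p
    have huxp : (u * x) ^ p ∉ center G := fun hc => hup (by
      rw [hux] at hc
      simpa using mul_mem hc (inv_mem hxp))
    have huxc : u * x ∉ center G := fun hc => huxp (pow_mem hc p)
    have h1 : C (u * x) = C u := by
      rw [← C_pow h huxc huxp, ← C_pow h huc hup, hux]
      ext z
      rw [mem_C, mem_C]
      have hz : Commute (x ^ p) z := (Subgroup.mem_center_iff.1 hxp z).symm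
      exact ⟨fun hc => by simpa using hc.mul_left hz.inv_left, fun hc => hc.mul_left hz⟩
    refine hne (hCx ▸ eq_of_le h huc hxc fun z hz => mem_C.2 ?_)
    have hz' : z ∈ C (u * x) := h1.symm ▸ hz
    simpa using (mem_C.1 hz).inv_left.mul_left (mem_C.1 hz')
  by_cases hne : C m ≠ C a
  · exact key m hm hne
  rw [not_not] at hne
  by_contra hmp
  obtain ⟨v, hv, w, hw, hvw⟩ : ∃ v ∈ C a, ∃ w ∈ C a, ¬ Commute v w := by
    by_contra hall
    push Not at hall
    exact hab ⟨⟨fun u v => Subtype.ext (hall u u.2 v v.2).eq⟩⟩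
  have hmw : Commute m w := mem_C.1 (hne.symm ▸ hw)
  have hmv : Commute m v := mem_C.1 (hne.symm ▸ hv)
  have hvne : C v ≠ C a := fun e => hvw (mem_C.1 (e.symm ▸ hw))
  have hvmne : C (v * m) ≠ C a := fun e => hvw (by
    have := mem_C.1 (e.symm ▸ hw : w ∈ C (v * m))
    simpa using this.mul_left hmw.inv_left)
  have h1 := key v hv hvne
  have h2 := key (v * m) (mul_mem hv hm) hvmne
  rw [hmv.symm.mul_pow] at h2
  exact hmp (by simpa using mul_mem (inv_mem h1) h2)

/-- If some centralizer is nonabelian then `G ⧸ Z(G)` is a `p`-group. -/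
theorem isPGroup_of_nonabelian {p : ℕ} [Fact p.Prime] {a : G} (ha : a ∉ center G)
    (hap : ∃ k, orderOf a = p ^ k) (hab : ¬ IsMulCommutative (C a)) :
    IsPGroup p (G ⧸ center G) := by
  classical
  have hp : p.Prime := Fact.out
  by_cases hn : (C a).Normal
  · exact isPGroup_of_normal h ha hap hab
  by_contra hnp
  haveI := isSolvable h
  set M := (C a).map π with hMdef
  have hcm : M.comap π = C a := Subgroup.comap_map_eq_self (by
    rw [QuotientGroup.ker_mk']; exact Subgroup.center_le_centralizer _)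
  have hsurj := QuotientGroup.mk'_surjective (center G)
  have hMmax : IsCoatom M := by
    refine ⟨fun e => (h a ha).1 (by rw [← hcm, e, comap_top]), fun K hK => ?_⟩
    have hlt : C a < K.comap π := by
      rw [← hcm]
      exact (Subgroup.comap_lt_comap_of_surjective hsurj).2 hK
    rw [← map_comap_eq_self_of_surjective hsurj K, (h a ha).2 _ hlt, map_top_of_surjective _ hsurj]
  have hMn : ¬ M.Normal := fun hc => hn (by rw [← hcm]; exact hc.comap _)
  have hexp : ∀ x ∈ M, x ^ p = 1 := by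
    rintro _ ⟨m, hm, rfl⟩
    rw [← map_pow]
    exact (QuotientGroup.eq_one_iff _).2 (pow_mem_center h ha hap hab hm)
  have hMp : IsPGroup p M := fun x => ⟨1, Subtype.ext (by simpa using hexp x x.2)⟩
  obtain ⟨P, hMP⟩ := hMp.exists_le_sylow
  have hPM : (P : Subgroup (G ⧸ center G)) = M := by
    rcases hMmax.le_iff.1 hMP with e | e
    · exact absurd (fun g => by
        obtain ⟨k, hk⟩ := P.2 ⟨g, e ▸ mem_top g⟩
        exact ⟨k, congrArg Subtype.val hk⟩) hnp
    · exact e
  -- every `p`-element is conjugate into `M`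
  have hconj : ∀ s : G ⧸ center G, (∃ k, orderOf s = p ^ k) → ∃ c, c⁻¹ * s * c ∈ M := by
    intro s ⟨k, hk⟩
    obtain ⟨P', hP'⟩ := (IsPGroup.of_card_dvd_pow (p := p) (n := k)
      (G := zpowers s) (by rw [Nat.card_zpowers, hk])).exists_le_sylow
    obtain ⟨c, rfl⟩ := MulAction.exists_smul_eq (G ⧸ center G) P P'
    refine ⟨c, hPM ▸ ?_⟩
    have hs := hP' (mem_zpowers s)
    rw [Sylow.coe_subgroup_smul, Subgroup.mem_pointwise_smul_iff_inv_smul_mem] at hs
    simpa [MulAut.smul_def] using hs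
  -- no nontrivial `p`-element commutes with a nontrivial `p'`-element
  have hW : ∀ s k : G ⧸ center G, (∃ j, orderOf s = p ^ j) → s ≠ 1 →
      (orderOf k).Coprime p → Commute s k → k = 1 := by
    suffices hkey : ∀ s k : G ⧸ center G, s ∈ M → s ≠ 1 → (orderOf k).Coprime p → Commute s k →
        k = 1 by
      intro s k hs hs1 hk hsk
      obtain ⟨c, hc⟩ := hconj s hs
      have h1 := hkey (c⁻¹ * s * c) (c⁻¹ * k * c) hc
        (fun e => hs1 (by
          have : s = c * (c⁻¹ * s * c) * c⁻¹ := by group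
          rw [this, e, mul_one, mul_inv_cancel]))
        (by
          have h2 : orderOf (MulAut.conj c⁻¹ k) = orderOf k := (MulAut.conj c⁻¹).orderOf_eq k
          rw [MulAut.conj_apply, inv_inv] at h2
          rwa [h2])
        (by simpa using hsk.map (MulAut.conj c⁻¹).toMonoidHom)
      have : k = c * (c⁻¹ * k * c) * c⁻¹ := by group
      rw [this, h1, mul_one, mul_inv_cancel]
    rintro _ k ⟨m, hm, rfl⟩ hs1 hk hsk
    obtain ⟨v, w, hvw, hv, hw, ⟨i, hi⟩, hwp⟩ := FGSBSmall.exists_prime_split hp m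
    have hwc := coprime_central h ha hap hab (zpowers_le.2 hm hw) hwp
    have hvs : π v = π m := by
      rw [← hvw, map_mul, show π w = 1 from (QuotientGroup.eq_one_iff w).2 hwc, mul_one]
    have hvc : v ∉ center G := fun hc => hs1 (hvs ▸ (QuotientGroup.eq_one_iff v).2 hc)
    obtain ⟨g, rfl⟩ := QuotientGroup.mk'_surjective (center G) k
    obtain ⟨u, l, hul, hu, hl, ⟨j, hj⟩, hlp⟩ := FGSBSmall.exists_prime_split hp g
    have hu1 : π u = 1 := by
      refine orderOf_eq_one_iff.1 (Nat.eq_one_of_dvd_coprimes (hk.pow_right j) ?_ ?_)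
      · obtain ⟨n, rfl⟩ := hu
        show orderOf (π (g ^ n)) ∣ orderOf (π g)
        rw [map_zpow]
        exact orderOf_dvd_of_mem_zpowers (zpow_mem (mem_zpowers _) n)
      · exact hj ▸ orderOf_map_dvd π u
    have hl' : π l = π g := by rw [← hul, map_mul, hu1, one_mul]
    set c := v * l * v⁻¹ * l⁻¹ with hc
    have hcZ : c ∈ center G := by
      rw [← QuotientGroup.eq_one_iff]
      show π c = 1
      rw [hc, map_mul, map_mul, map_mul, map_inv, map_inv, hvs, hl', hsk.eq,
        mul_inv_cancel_right, mul_inv_cancel]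
    have hcc : ∀ z, Commute c z := fun z => (Subgroup.mem_center_iff.1 hcZ z).symm
    have hc1 : c = 1 := by
      refine orderOf_eq_one_iff.1 (Nat.eq_one_of_dvd_coprimes (hlp.pow_right i)
        (orderOf_dvd_of_pow_eq_one ?_) (orderOf_dvd_of_pow_eq_one ?_))
      · have h1 : v * l * v⁻¹ = c * l := by rw [hc]; group
        have h2 := congrArg (fun z => z ^ orderOf l) h1
        simp only [conj_pow, (hcc l).mul_pow, pow_orderOf_eq_one, mul_one, mul_inv_cancel] at h2
        exact h2.symm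
      · have h1 : l * v * l⁻¹ = c⁻¹ * v := by rw [hc]; group
        have h2 := congrArg (fun z => z ^ (p ^ i)) h1
        simp only [conj_pow, (hcc v).inv_left.mul_pow, inv_pow, ← hi, pow_orderOf_eq_one, mul_one,
          mul_inv_cancel] at h2
        rw [← hi]
        exact inv_eq_one.1 h2.symm
    have hvl : Commute v l := by
      rw [hc] at hc1
      exact mul_inv_eq_iff_eq_mul.1 (mul_inv_eq_one.1 hc1)
    have haCv : a ∈ C v := mem_C.2 (mem_C.1 (zpowers_le.2 hm hv)).symm
    have hla : l ∈ C a := mem_C.2 (mem_C_of_coprime h hvc hvl (hi ▸ hlp.symm.pow_left i) haCv).symm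
    rw [← hl']
    exact (QuotientGroup.eq_one_iff l).2 (coprime_central h ha hap hab hla hlp)
  exact no_maximal_sylow (M := M) hMmax hMn hMp hexp (by
    intro hc
    apply hab
    haveI := hc
    let f : C a →* M := MonoidHom.subgroupMap π (C a)
    haveI : IsMulCommutative (C a) := f.isMulCommutative_of_isCyclic_of_ker_le_center (by
      intro z hz
      have hz' : π (z : G) = 1 := congrArg Subtype.val (MonoidHom.mem_ker.1 hz)
      refine Subgroup.mem_center_iff.2 fun w => Subtype.ext ?_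
      exact Subgroup.mem_center_iff.1 ((QuotientGroup.eq_one_iff _).1 hz') w)
    assumption) hW

/-- The structure theorem. -/
theorem structure_quotient (hna : ¬ IsMulCommutative G) :
    (∃ p : ℕ, p.Prime ∧ Cfsg.IsElementaryAbelian p (⊤ : Subgroup (G ⧸ Subgroup.center G))) ∨
    (¬ IsMulCommutative (G ⧸ Subgroup.center G) ∧
      (∀ H : Subgroup (G ⧸ Subgroup.center G), H ≠ ⊤ → IsMulCommutative ↥H) ∧
      ∃ p q a : ℕ, p.Prime ∧ q.Prime ∧ p ≠ q ∧ Nat.card (G ⧸ Subgroup.center G) = p ^ a * q ∧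
        ∀ P : Subgroup (G ⧸ Subgroup.center G), Nat.card ↥P = p ^ a → P.Normal) := by
  by_cases hab : ∀ g : G, g ∉ center G → IsMulCommutative (C g)
  · exact abelian_structure h hna hab
  push Not at hab
  obtain ⟨g, hg, hgab⟩ := hab
  obtain ⟨p, a, hp, hap, ha, hC⟩ := exists_prime_pow h hg
  haveI := Fact.mk hp
  exact Or.inl ⟨p, hp, pgroup_structure h hna
    (isPGroup_of_nonabelian h ha hap (fun e => hgab (hC ▸ e)))⟩

end Main

end CfsgLib.CentMax
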