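import Cfsg.Agent.CentMax.Structure
import Cfsg.Agent.ZJ.Constrained

/-!
A group has no self-normalizing noncyclic Sylow `p`-subgroup of exponent `p`, "maximal up to
automorphisms", in which no nontrivial `p`-element commutes with a nontrivial `p'`-element.
-/

set_option autoImplicit false
set_option linter.style.haveILetI false
set_option linter.unusedSectionVars false

open scoped Pointwise

namespace CfsgLib.CentMax

open Subgroup
open scoped IsMulCommutative

universe u

variable {Q : Type u} [Group Q] [Finite Q] {p : ℕ} [Fact p.Prime]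

theorem map_pCore (α : MulAut Q) : (Cfsg.pCore p Q).map α.toMonoidHom = Cfsg.pCore p Q := by
  refine Subgroup.eq_of_le_of_card_ge (Solvable.le_pCore p ?_ ((Solvable.isPGroup_pCore p).map _)) ?_
  · exact (Solvable.pCore_normal p).map _ α.surjective
  · rw [Subgroup.card_map_of_injective α.injective]

/-- With trivial `p`-core, such a group has a normal `p`-complement. -/
theorem hasNormalPComplement_of_pCore_bot (P : Sylow p Q)
    (hexp : ∀ x ∈ (P : Subgroup Q), x ^ p = 1) (hPn : ¬ (P : Subgroup Q).Normal)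
    (hmax : ∀ H : Subgroup Q, (P : Subgroup Q) ≤ H → (∀ α : MulAut Q,
      (P : Subgroup Q).map α.toMonoidHom = P → H.map α.toMonoidHom = H) → H = P ∨ H = ⊤)
    (hcore : Cfsg.pCore p Q = ⊥) : Cfsg.HasNormalPComplement p Q := by
  have hp : p.Prime := Fact.out
  -- normalizers of invariant nontrivial subgroups of `P`
  have hN : ∀ Z : Subgroup Q, Z ≤ P → Z ≠ ⊥ → (P : Subgroup Q) ≤ normalizer (Z : Set Q) →
      (∀ α : MulAut Q, (P : Subgroup Q).map α.toMonoidHom = P → Z.map α.toMonoidHom = Z) →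
      normalizer (Z : Set Q) = P := by
    intro Z hZP hZ1 hPN hinv
    rcases hmax _ hPN (fun α hα => by rw [Subgroup.map_equiv_normalizer_eq, hinv α hα]) with e | e
    · exact e
    · exfalso
      haveI := normalizer_eq_top_iff.1 e
      exact hZ1 (le_bot_iff.1 (hcore ▸ Solvable.le_pCore p inferInstance (P.2.to_le hZP)))
  have hP1 : (P : Subgroup Q) ≠ ⊥ := fun e => hPn (e ▸ inferInstance)
  by_cases hp2 : p = 2
  · refine TransferBasic.hasNormalPComplement_of_le_centralizer P ?_
    rw [hN P le_rfl hP1 le_normalizer (fun α hα => hα)]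
    intro x hx
    refine Subgroup.mem_centralizer_iff.2 fun y hy => ?_
    subst hp2
    have h1 := hexp x hx
    have h2 := hexp y hy
    have h3 := hexp (x * y) (mul_mem hx hy)
    rw [pow_two] at h1 h2 h3
    calc y * x = (x * x) * (y * x) * (y * y) := by rw [h1, h2, one_mul, mul_one]
      _ = x * (x * y * (x * y)) * y := by group
      _ = x * y := by rw [h3, mul_one]
  · set Z := Cfsg.centerThompsonAOf (P : Subgroup Q) with hZ
    have hZP : Z ≤ (P : Subgroup Q) := inf_le_left.trans (Subgroup.map_subtype_le _)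
    have hinv : ∀ α : MulAut Q, (P : Subgroup Q).map α.toMonoidHom = P →
        Z.map α.toMonoidHom = Z := by
      intro α hα
      have := ZJ.centerThompsonAOf_map α.toMonoidHom (P : Subgroup Q)
        fun w _ hw => α.injective (hw.trans (map_one _).symm)
      rw [hα] at this
      exact this.symm
    have hPN : (P : Subgroup Q) ≤ normalizer (Z : Set Q) := fun g hg =>
      Functor.mem_normalizer_iff_cj.mpr (hinv (MulAut.conj g)
        (Functor.mem_normalizer_iff_cj.mp (le_normalizer hg)))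
    have hZ1 : Z ≠ ⊥ := by
      haveI : Nontrivial (P : Subgroup Q) := (Subgroup.nontrivial_iff_ne_bot _).2 hP1
      haveI := P.2.center_nontrivial
      obtain ⟨z, hz⟩ := exists_ne (1 : center (P : Subgroup Q))
      intro e
      refine hz (Subtype.ext (Subtype.ext ?_))
      have : ((z : (P : Subgroup Q)) : Q) ∈ Z := by
        rw [hZ, Fusion.centerThompsonAOf_eq]
        exact ⟨z, Fusion.center_le_centerThompsonA z.2, rfl⟩
      rw [e, mem_bot] at this
      exact this
    refine FGSA.GT.hasNormalPComplement hp2 P ?_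
    rw [← hZ, hN Z hZP hZ1 hPN hinv]
    haveI := P.2.isNilpotent
    exact FGSA.GT.npc_of_isNilpotent

/-- The main lemma. -/
theorem no_selfnormalizing_sylow (P : Sylow p Q) (hPn : ¬ (P : Subgroup Q).Normal)
    (hexp : ∀ x ∈ (P : Subgroup Q), x ^ p = 1) (hncyc : ¬ IsCyclic (P : Subgroup Q))
    (hW : ∀ s k : Q, (∃ j, orderOf s = p ^ j) → s ≠ 1 → (orderOf k).Coprime p → Commute s k → k = 1)
    (hmax : ∀ H : Subgroup Q, (P : Subgroup Q) ≤ H → (∀ α : MulAut Q,
      (P : Subgroup Q).map α.toMonoidHom = P → H.map α.toMonoidHom = H) → H = P ∨ H = ⊤) :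
    False := by
  classical
  have hp : p.Prime := Fact.out
  -- every `p`-element has order dividing `p`
  have hpel : ∀ s : Q, (∃ j, s ^ p ^ j = 1) → s ^ p = 1 := by
    intro s ⟨j, hj⟩
    obtain ⟨P', hP'⟩ := (IsPGroup.of_card_dvd_pow (p := p) (n := j) (G := zpowers s) (by
      rw [Nat.card_zpowers]; exact orderOf_dvd_of_pow_eq_one hj)).exists_le_sylow
    obtain ⟨c, rfl⟩ := MulAction.exists_smul_eq Q P P'
    have hs := hP' (mem_zpowers s)
    rw [Sylow.coe_subgroup_smul, Subgroup.mem_pointwise_smul_iff_inv_smul_mem] at hs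
    have h1 : (c⁻¹ * s * c) ^ p = 1 := hexp _ (by simpa [MulAut.smul_def] using hs)
    have h2 : c⁻¹ * s ^ p * c = 1 := by
      have := map_pow (MulAut.conj c⁻¹) s p
      simp only [MulAut.conj_apply, inv_inv] at this
      rw [this, h1]
    calc s ^ p = c * (c⁻¹ * s ^ p * c) * c⁻¹ := by group
      _ = 1 := by rw [h2, mul_one, mul_inv_cancel]
  have hMord : ∀ x : Q, x ^ p = 1 → ∃ j, orderOf x = p ^ j := fun x hx => by
    obtain ⟨j, -, hj⟩ := (Nat.dvd_prime_pow hp).1
      (orderOf_dvd_of_pow_eq_one (by rw [pow_one]; exact hx) : orderOf x ∣ p ^ 1)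
    exact ⟨j, hj⟩
  set R := Cfsg.pCore p Q with hR
  have hRp : IsPGroup p R := Solvable.isPGroup_pCore p
  haveI hRn : R.Normal := Solvable.pCore_normal p
  have hRP : R ≤ (P : Subgroup Q) := hRp.le_sylow_of_normal P
  -- the normal `p`-complement modulo `R`
  have hsurj := QuotientGroup.mk'_surjective R
  have hPcm : ((P : Subgroup Q).map (QuotientGroup.mk' R)).comap (QuotientGroup.mk' R) = P :=
    Subgroup.comap_map_eq_self (by rw [QuotientGroup.ker_mk']; exact hRP)
  obtain ⟨Pq, hPq⟩ : ∃ S : Sylow p (Q ⧸ R), (S : Subgroup (Q ⧸ R)) = (P : Subgroup Q).map (QuotientGroup.mk' R) :=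
    ⟨P.mapSurjective hsurj, rfl⟩
  obtain ⟨P₁, K, hKn, hKc⟩ : Cfsg.HasNormalPComplement p (Q ⧸ R) := by
    refine hasNormalPComplement_of_pCore_bot Pq ?_ ?_ ?_ ?_
    · rw [hPq]
      rintro _ ⟨x, hx, rfl⟩
      rw [← map_pow, hexp x hx, map_one]
    · intro hc
      rw [hPq] at hc
      exact hPn (hPcm ▸ hc.comap _)
    · intro H hH hinv
      rw [hPq] at hH hinv
      have hinv' : ∀ α : MulAut Q, (P : Subgroup Q).map α.toMonoidHom = P →
          (H.comap (QuotientGroup.mk' R)).map α.toMonoidHom = H.comap (QuotientGroup.mk' R) := by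
        intro α hα
        have hαR : R.map α.toMonoidHom = R := map_pCore α
        let β : MulAut (Q ⧸ R) := QuotientGroup.congr R R α hαR
        have hcomm : β.toMonoidHom.comp (QuotientGroup.mk' R) = (QuotientGroup.mk' R).comp α.toMonoidHom :=
          MonoidHom.ext fun x => rfl
        have hβ := hinv β (by rw [Subgroup.map_map, hcomm, ← Subgroup.map_map, hα])
        refine Subgroup.eq_of_le_of_card_ge ?_ (by rw [Subgroup.card_map_of_injective α.injective])
        rintro _ ⟨x, hx, rfl⟩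
        show (QuotientGroup.mk' R) (α x) ∈ H
        rw [← hβ]
        exact ⟨_, hx, rfl⟩
      rcases hmax (H.comap (QuotientGroup.mk' R)) (hPcm ▸ Subgroup.comap_mono hH) hinv' with e | e
      · left
        rw [hPq, ← e, map_comap_eq_self_of_surjective hsurj]
      · right
        rw [← map_comap_eq_self_of_surjective hsurj H, e, map_top_of_surjective _ hsurj]
    · refine le_bot_iff.1 ?_
      rw [← map_comap_eq_self_of_surjective hsurj (Cfsg.pCore p (Q ⧸ R)),
        Subgroup.map_le_iff_le_comap, MonoidHom.comap_bot, QuotientGroup.ker_mk']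
      refine Solvable.le_pCore p ((Solvable.pCore_normal p).comap _) ?_
      exact (Solvable.isPGroup_pCore p).comap_of_ker_isPGroup _ (by rw [QuotientGroup.ker_mk']; exact hRp)
  haveI := hKn
  set L := K.comap (QuotientGroup.mk' R) with hL
  haveI : L.Normal := hKn.comap _
  have hQL : IsPGroup p (Q ⧸ L) := by
    have h1 : IsPGroup p ((Q ⧸ R) ⧸ K) := P₁.2.of_equiv (hKc.symm.QuotientMulEquiv.symm)
    intro g
    obtain ⟨g, rfl⟩ := QuotientGroup.mk_surjective g
    obtain ⟨j, hj⟩ := h1 ((g : Q ⧸ R) : (Q ⧸ R) ⧸ K)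
    refine ⟨j, ?_⟩
    rw [← QuotientGroup.mk_pow, QuotientGroup.eq_one_iff] at hj ⊢
    exact hj
  have hPL : ¬ (P : Subgroup Q) ≤ L := by
    intro hle
    have hPR : (P : Subgroup Q).map (QuotientGroup.mk' R) ≤ K := Subgroup.map_le_iff_le_comap.2 hle
    have hKco : (Nat.card K).Coprime p := by
      rw [← hKc.index_eq_card]
      exact (hp.coprime_iff_not_dvd.2 P₁.not_dvd_index).symm
    obtain ⟨n, hn⟩ := IsPGroup.iff_card.1 (P.2.map (QuotientGroup.mk' R))
    have h1 := Subgroup.card_dvd_of_le hPR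
    rw [hn] at h1
    have h2 : p ^ n = 1 := Nat.eq_one_of_dvd_coprimes (hKco.pow_right n) h1 dvd_rfl
    have hbot : (P : Subgroup Q).map (QuotientGroup.mk' R) = ⊥ :=
      Subgroup.eq_bot_of_card_eq _ (hn.trans h2)
    rw [Subgroup.map_eq_bot_iff, QuotientGroup.ker_mk'] at hbot
    exact hPn (le_antisymm hbot hRP ▸ hRn)
  -- a `q`-Sylow subgroup of `L`, `q ≠ p`
  obtain ⟨q, hq, hqK⟩ : ∃ q : ℕ, q.Prime ∧ q ∣ Nat.card K := by
    refine Nat.exists_prime_and_dvd fun e => ?_
    have hbot := Subgroup.eq_bot_of_card_eq K e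
    refine hPn ?_
    have hQp : IsPGroup p Q := by
      intro g
      obtain ⟨i, hi⟩ := hQL (g : Q ⧸ L)
      rw [← QuotientGroup.mk_pow, QuotientGroup.eq_one_iff, hL, hbot, MonoidHom.comap_bot,
        QuotientGroup.ker_mk'] at hi
      obtain ⟨j, hj⟩ := hRp ⟨_, hi⟩
      exact ⟨i + j, by rw [pow_add, pow_mul]; exact congrArg Subtype.val hj⟩
    haveI := hQp.isNilpotent
    exact P.normal_of_normalizerCondition Group.normalizerCondition_of_isNilpotent
  have hqp : q ≠ p := by
    intro e
    subst e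
    rw [← hKc.index_eq_card] at hqK
    exact P₁.not_dvd_index hqK
  haveI := Fact.mk hq
  obtain ⟨S⟩ : Nonempty (Sylow q L) := inferInstance
  set T := (S : Subgroup L).map L.subtype with hT
  have hTq : IsPGroup q T := S.2.map _
  have hTco : ∀ k ∈ T, (orderOf k).Coprime p := by
    intro k hk
    obtain ⟨n, hn⟩ := IsPGroup.iff_orderOf.1 hTq ⟨k, hk⟩
    rw [← Subgroup.orderOf_mk k hk, hn]
    exact ((Nat.coprime_primes hq hp).2 hqp).pow_left n
  have hT1 : T ≠ ⊥ := by
    intro e
    rw [hT, Subgroup.map_eq_bot_iff_of_injective _ L.subtype_injective] at e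
    have h1 : q ∣ Nat.card L := by
      refine hqK.trans ?_
      have h2 := Subgroup.card_dvd_of_surjective ((QuotientGroup.mk' R).subgroupComap K) (by
        rintro ⟨x, hx⟩
        obtain ⟨g, rfl⟩ := hsurj x
        exact ⟨⟨g, hx⟩, rfl⟩)
      exact h2
    have h3 := S.dvd_card_of_dvd_card h1
    rw [e, Subgroup.card_bot] at h3
    exact hq.ne_one (Nat.dvd_one.1 h3)
  have htop : normalizer (T : Set Q) ⊔ L = ⊤ := Sylow.normalizer_sup_eq_top S
  -- a nontrivial norm always vanishes
  by_cases hR1 : R = ⊥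
  · -- a conjugate of `P` normalizes `T`
    obtain ⟨U⟩ : Nonempty (Sylow p (normalizer (T : Set Q))) := inferInstance
    set U' := (U : Subgroup (normalizer (T : Set Q))).map (normalizer (T : Set Q)).subtype with hU'
    have hLco : (Nat.card L).Coprime p := by
      have hinj : Function.Injective ((QuotientGroup.mk' R).subgroupComap K) := by
        intro a b hab
        have := congrArg Subtype.val hab
        refine Subtype.ext ?_
        have h2 : (a : Q)⁻¹ * b ∈ R := QuotientGroup.eq.1 this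
        replace h2 : (a : Q)⁻¹ * b ∈ (⊥ : Subgroup Q) := hR1 ▸ h2
        rw [mem_bot] at h2
        exact inv_mul_eq_one.1 h2
      have h1 : Nat.card L ≤ Nat.card K := Nat.card_le_card_of_injective _ hinj
      have h2 := Subgroup.card_dvd_of_injective _ hinj
      refine Nat.Coprime.coprime_dvd_left h2 ?_
      rw [← hKc.index_eq_card]
      exact (hp.coprime_iff_not_dvd.2 P₁.not_dvd_index).symm
    have hUP : ∃ P' : Sylow p Q, (P' : Subgroup Q) = U' := by
      obtain ⟨P', hP'⟩ := IsPGroup.exists_le_sylow (P := U') (U.2.map _)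
      refine ⟨P', le_antisymm (fun g hg => ?_) hP'⟩
      -- decompose along `N(T) L = Q`
      let f : normalizer (T : Set Q) →* Q ⧸ L :=
        (QuotientGroup.mk' L).comp (normalizer (T : Set Q)).subtype
      have hf : Function.Surjective f := by
        intro z
        obtain ⟨w, rfl⟩ := QuotientGroup.mk_surjective z
        obtain ⟨a, ha, b, hb, rfl⟩ := mem_sup_of_normal_right.1 (htop ▸ mem_top w)
        exact ⟨⟨a, ha⟩, by
          show ((a : Q) : Q ⧸ L) = ((a * b : Q) : Q ⧸ L)
          rw [QuotientGroup.mk_mul, (QuotientGroup.eq_one_iff b).2 hb, mul_one]⟩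
      have hUmap : (U : Subgroup (normalizer (T : Set Q))).map f = ⊤ := by
        rw [← Subgroup.index_eq_one]
        obtain ⟨n, hn⟩ := IsPGroup.iff_card.1 hQL
        obtain ⟨i, -, hi⟩ := (Nat.dvd_prime_pow hp).1
          (hn ▸ Subgroup.index_dvd_card ((U : Subgroup (normalizer (T : Set Q))).map f))
        rcases Nat.eq_zero_or_pos i with e | e
        · rw [hi, e, pow_zero]
        · exact absurd ((dvd_pow_self p (Nat.pos_iff_ne_zero.1 e)).trans
            (hi ▸ Subgroup.index_map_dvd _ hf)) U.not_dvd_index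
      obtain ⟨u, hu, hug⟩ := (hUmap ▸ mem_top (g : Q ⧸ L) :
        (g : Q ⧸ L) ∈ (U : Subgroup (normalizer (T : Set Q))).map f)
      have h2 : (u : Q)⁻¹ * g ∈ L := QuotientGroup.eq.1 hug
      have h3 : (u : Q)⁻¹ * g ∈ (P' : Subgroup Q) := mul_mem (inv_mem (hP' ⟨u, hu, rfl⟩)) hg
      obtain ⟨j, hj⟩ := IsPGroup.iff_orderOf.1 P'.2 ⟨_, h3⟩
      rw [Subgroup.orderOf_mk] at hj
      have h4 : (u : Q)⁻¹ * g = 1 := orderOf_eq_one_iff.1 (Nat.eq_one_of_dvd_coprimes
        (hLco.pow_right j) (Subgroup.orderOf_dvd_natCard L h2) (hj ▸ dvd_rfl))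
      rw [← inv_mul_eq_one.1 h4]
      exact ⟨u, hu, rfl⟩
    obtain ⟨P', hP'⟩ := hUP
    obtain ⟨c, hc⟩ := MulAction.exists_smul_eq Q P' P
    have hncyc' : ¬ IsCyclic U' := by
      intro hcy
      rw [← hP'] at hcy
      haveI := hcy
      exact hncyc ((P'.equiv P).isCyclic.1 inferInstance)
    -- the centre of `T` is abelian and normalized by `U'`
    set V := (center T).map T.subtype with hV
    have hV1 : V ≠ ⊥ := by
      haveI := (Subgroup.nontrivial_iff_ne_bot T).2 hT1
      haveI := hTq.center_nontrivial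
      intro e
      rw [hV, Subgroup.map_eq_bot_iff_of_injective _ T.subtype_injective] at e
      exact (Subgroup.nontrivial_iff_ne_bot _).1 inferInstance e
    have hVT : V ≤ T := Subgroup.map_subtype_le _
    have hUV : U' ≤ normalizer (V : Set Q) := (Subgroup.map_subtype_le _).trans (by
      rw [hV]
      intro g hg
      refine Functor.mem_normalizer_iff_cj.mpr ?_
      ext y
      constructor
      · rintro ⟨_, ⟨⟨t, ht⟩, htc, rfl⟩, rfl⟩
        refine ⟨⟨g * t * g⁻¹, (Subgroup.mem_normalizer_iff.1 hg t).1 ht⟩, Subgroup.mem_center_iff.2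
          fun w => Subtype.ext ?_, rfl⟩
        have hw : g⁻¹ * (w : Q) * g ∈ T := (Subgroup.mem_normalizer_iff''.1 hg w).1 w.2
        have := congrArg Subtype.val (Subgroup.mem_center_iff.1 htc ⟨_, hw⟩)
        simp only [Subgroup.coe_mul] at this ⊢
        calc (w : Q) * (g * t * g⁻¹) = g * ((g⁻¹ * w * g) * t) * g⁻¹ := by group
          _ = g * (t * (g⁻¹ * w * g)) * g⁻¹ := by rw [this]
          _ = g * t * g⁻¹ * w := by group
      · rintro ⟨⟨t, ht⟩, htc, rfl⟩
        refine ⟨g⁻¹ * t * g, ⟨⟨g⁻¹ * t * g, (Subgroup.mem_normalizer_iff''.1 hg t).1 ht⟩,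
          Subgroup.mem_center_iff.2 fun w => Subtype.ext ?_, rfl⟩, by simp [mul_assoc]⟩
        have hw : g * (w : Q) * g⁻¹ ∈ T := (Subgroup.mem_normalizer_iff.1 hg w).1 w.2
        have := congrArg Subtype.val (Subgroup.mem_center_iff.1 htc ⟨_, hw⟩)
        simp only [Subgroup.coe_mul] at this ⊢
        calc (w : Q) * (g⁻¹ * t * g) = g⁻¹ * ((g * w * g⁻¹) * t) * g := by group
          _ = g⁻¹ * (t * (g * w * g⁻¹)) * g := by rw [this]
          _ = g⁻¹ * t * g * w := by group)
    haveI : IsMulCommutative V := by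
      refine ⟨⟨?_⟩⟩
      rintro ⟨_, a, ha, rfl⟩ ⟨_, b, hb, rfl⟩
      exact Subtype.ext (congrArg Subtype.val (Subgroup.mem_center_iff.1 hb a) : (a : Q) * b = b * a)
    let act : normalizer (V : Set Q) →* MulAut V :=
      { toFun := fun n =>
          { toFun := fun v => ⟨n * v * (n : Q)⁻¹, (Subgroup.mem_normalizer_iff.1 n.2 v).1 v.2⟩
            invFun := fun v => ⟨(n : Q)⁻¹ * v * n, (Subgroup.mem_normalizer_iff''.1 n.2 v).1 v.2⟩
            left_inv := fun v => Subtype.ext (by simp [mul_assoc])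
            right_inv := fun v => Subtype.ext (by simp [mul_assoc])
            map_mul' := fun v w => Subtype.ext (by simp [mul_assoc]) }
        map_one' := MulEquiv.ext fun v => Subtype.ext (by simp)
        map_mul' := fun m n => MulEquiv.ext fun v => Subtype.ext (by simp [mul_assoc]) }
    have hU'p : ∀ s ∈ U', s ^ p = 1 := fun s hs => hpel s (by
      obtain ⟨j, hj⟩ := U.2.map (normalizer (T : Set Q)).subtype ⟨s, hs⟩
      exact ⟨j, congrArg Subtype.val hj⟩)
    have hN : ∀ s : normalizer (V : Set Q), (s : Q) ∈ U' → s ≠ 1 → ∀ v : V,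
        ∏ i ∈ Finset.range p, act (s ^ i) v = 1 := by
      intro s hs hs1 v
      by_contra hne
      have hsp : s ^ p = 1 := Subtype.ext (hU'p s hs)
      set N := ∏ i ∈ Finset.range p, act (s ^ i) v with hNdef
      have hfix : act s N = N := by
        have h1 : ∀ i : ℕ, act s (act (s ^ i) v) = act (s ^ (i + 1)) v := fun i => by
          rw [pow_succ', map_mul, MulAut.mul_apply]
        have h2 := (Finset.prod_range_succ (fun i => act (s ^ i) v) p).symm.trans
          (Finset.prod_range_succ' (fun i => act (s ^ i) v) p)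
        simp only [pow_zero, hsp] at h2
        rw [hNdef, map_prod, Finset.prod_congr rfl fun i _ => h1 i]
        exact (mul_right_cancel h2).symm
      have hcm : Commute (s : Q) (N : Q) := mul_inv_eq_iff_eq_mul.1 (congrArg Subtype.val hfix)
      exact hne (Subtype.ext (hW s N (hMord _ (hU'p s hs)) (fun e => hs1 (Subtype.ext e))
        (hTco _ (hVT N.2)) hcm))
    have hU'g : IsPGroup p U' := U.2.map _
    haveI : Nontrivial U' := by
      by_contra hc
      rw [not_nontrivial_iff_subsingleton] at hc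
      exact hncyc' inferInstance
    haveI := hU'g.center_nontrivial
    obtain ⟨⟨⟨a, haM⟩, hac⟩, ha1⟩ := exists_ne (1 : center U')
    have ha1' : a ≠ 1 := fun e => ha1 (Subtype.ext (Subtype.ext e))
    obtain ⟨b, hbM, hb⟩ : ∃ b ∈ U', b ∉ zpowers a := by
      by_contra hall
      push Not at hall
      exact hncyc' ((le_antisymm hall (zpowers_le.2 haM) : U' = zpowers a) ▸ inferInstance)
    let a' : normalizer (V : Set Q) := ⟨a, hUV haM⟩
    let b' : normalizer (V : Set Q) := ⟨b, hUV hbM⟩
    have hab : Commute a' b' := Subtype.ext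
      (congrArg Subtype.val (Subgroup.mem_center_iff.1 hac ⟨b, hbM⟩)).symm
    refine hV1 ((Subgroup.eq_bot_iff_forall V).2 fun v hv => ?_)
    have h1 : ∏ i ∈ Finset.range p, ∏ j ∈ Finset.range p, act ((a' ^ i * b') ^ j) (⟨v, hv⟩ : V) = 1 := by
      refine Finset.prod_eq_one fun i _ => hN _ (mul_mem (pow_mem haM i) hbM) (fun e => hb ?_) _
      have e' : a ^ i * b = 1 := congrArg Subtype.val e
      rw [eq_inv_of_mul_eq_one_right e']
      exact inv_mem (pow_mem (mem_zpowers a) i)
    rw [Finset.prod_comm, Finset.prod_eq_single 0] at h1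
    · simp only [pow_zero, map_one, MulAut.one_apply, Finset.prod_const, Finset.card_range] at h1
      exact orderOf_eq_one_iff.1 (Nat.eq_one_of_dvd_coprimes (hTco v (hVT hv))
        dvd_rfl (orderOf_dvd_of_pow_eq_one (congrArg Subtype.val h1 : v ^ p = 1)))
    · intro j hj hj0
      have hj1 : a' ^ j ≠ 1 := by
        intro e
        have h2 : orderOf a = p := orderOf_eq_prime (hU'p a haM) ha1'
        have := h2 ▸ orderOf_dvd_of_pow_eq_one (congrArg Subtype.val e : a ^ j = 1)
        exact absurd (Nat.le_of_dvd (Nat.pos_of_ne_zero hj0) this) (not_le.2 (Finset.mem_range.1 hj))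
      rw [← hN (a' ^ j) (pow_mem haM j) hj1 (act (b' ^ j) ⟨v, hv⟩)]
      refine Finset.prod_congr rfl fun i _ => ?_
      rw [(hab.pow_left i).mul_pow, map_mul, MulAut.mul_apply, ← pow_mul, ← pow_mul, Nat.mul_comm]
    · exact fun hh => absurd (Finset.mem_range.2 (Fact.out : p.Prime).pos) hh
  · -- an element outside `R` normalizing `T`
    obtain ⟨g, hgN, hgL⟩ : ∃ g, g ∈ normalizer (T : Set Q) ∧ g ∉ L := by
      by_contra hall
      push Not at hall
      exact hPL (le_trans le_top (htop ▸ sup_le hall le_rfl))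
    obtain ⟨m, m₂, hmm, hm, hm₂, ⟨j, hj⟩, hm₂p⟩ := FGSBSmall.exists_prime_split hp g
    have hmN : m ∈ normalizer (T : Set Q) := zpowers_le.2 hgN hm
    have hmL : m ∉ L := by
      intro hmL
      refine hgL (hmm ▸ mul_mem hmL ?_)
      obtain ⟨i, hi⟩ := IsPGroup.iff_orderOf.1 hQL (m₂ : Q ⧸ L)
      rw [← QuotientGroup.eq_one_iff, ← orderOf_eq_one_iff, hi]
      exact Nat.eq_one_of_dvd_coprimes (hm₂p.pow_right i) (hi ▸ orderOf_map_dvd (QuotientGroup.mk' L) m₂)
        dvd_rfl
    have hmp : m ^ p = 1 := hpel m ⟨j, by rw [← hj, pow_orderOf_eq_one]⟩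
    have hm1 : m ≠ 1 := fun e => hmL (e ▸ one_mem _)
    set Y := (center R).map R.subtype with hY
    haveI : Y.Normal := by rw [hY]; infer_instance
    haveI : IsMulCommutative Y := by
      refine ⟨⟨?_⟩⟩
      rintro ⟨_, a, ha, rfl⟩ ⟨_, b, hb, rfl⟩
      exact Subtype.ext (congrArg Subtype.val (Subgroup.mem_center_iff.1 hb a) : (a : Q) * b = b * a)
    have hY1 : Y ≠ ⊥ := by
      haveI := (Subgroup.nontrivial_iff_ne_bot R).2 hR1
      haveI := hRp.center_nontrivial
      intro e
      rw [hY, Subgroup.map_eq_bot_iff_of_injective _ R.subtype_injective] at e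
      exact (Subgroup.nontrivial_iff_ne_bot _).1 inferInstance e
    have hYR : Y ≤ R := Subgroup.map_subtype_le _
    haveI := Fintype.ofFinite T
    let act : Q →* MulAut Y := MulAut.conjNormal
    refine hY1 ((Subgroup.eq_bot_iff_forall Y).2 fun y hy => ?_)
    have hn : ∀ k : T, ∏ i ∈ Finset.range p, act (((k : Q) * m * (k : Q)⁻¹) ^ i) (⟨y, hy⟩ : Y) = 1 := by
      intro k
      set s := (k : Q) * m * (k : Q)⁻¹ with hs
      have hsp : s ^ p = 1 := by rw [hs, conj_pow, hmp, mul_one, mul_inv_cancel]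
      have hys : (y * s) ^ p = 1 := by
        refine hpel _ ?_
        have hsg : IsPGroup p (zpowers s ⊔ R : Subgroup Q) :=
          (IsPGroup.of_card_dvd_pow (n := 1) (by
            rw [Nat.card_zpowers, pow_one]; exact orderOf_dvd_of_pow_eq_one hsp)).to_sup_of_normal_right hRp
        obtain ⟨i, hi⟩ := hsg ⟨y * s, mul_mem (mem_sup_right (hYR hy)) (mem_sup_left (mem_zpowers s))⟩
        exact ⟨i, congrArg Subtype.val hi⟩
      refine Subtype.ext ?_
      have := conjNormal_pow_prod s (⟨y, hy⟩ : Y) p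
      rw [hys, hsp, mul_one] at this
      exact this.symm
    have hfix : ∀ i : ℕ, i < p → i ≠ 0 → ∀ w : Y, ∏ k : T, act ((k : Q) * m ^ i * (k : Q)⁻¹) w = 1 := by
      intro i hi hi0 w
      have hmi : m ^ i ≠ 1 := fun e => by
        have h2 : orderOf m = p := orderOf_eq_prime hmp hm1
        have := h2 ▸ orderOf_dvd_of_pow_eq_one e
        exact absurd (Nat.le_of_dvd (Nat.pos_of_ne_zero hi0) this) (not_le.2 hi)
      have hmK : ∀ k : T, m ^ i * (k : Q) * (m ^ i)⁻¹ ∈ T := fun k =>
        (Subgroup.mem_normalizer_iff.1 (pow_mem hmN i) k).1 k.2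
      let φ : T → T := fun k => k * ⟨m ^ i * ((k⁻¹ : T) : Q) * (m ^ i)⁻¹, hmK k⁻¹⟩
      have hφ : Function.Bijective φ := by
        refine Finite.injective_iff_bijective.1 fun k₁ k₂ e => ?_
        have e' := congrArg Subtype.val e
        simp only [φ, Subgroup.coe_mul, Subgroup.coe_inv] at e'
        have hc : Commute (m ^ i) ((k₂ : Q)⁻¹ * k₁) := by
          show m ^ i * ((k₂ : Q)⁻¹ * k₁) = (k₂ : Q)⁻¹ * k₁ * m ^ i
          calc m ^ i * ((k₂ : Q)⁻¹ * k₁)
              = (k₂ : Q)⁻¹ * ((k₂ : Q) * (m ^ i * (k₂ : Q)⁻¹ * (m ^ i)⁻¹)) * (m ^ i * k₁) := by group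
            _ = (k₂ : Q)⁻¹ * ((k₁ : Q) * (m ^ i * (k₁ : Q)⁻¹ * (m ^ i)⁻¹)) * (m ^ i * k₁) := by rw [e']
            _ = (k₂ : Q)⁻¹ * k₁ * m ^ i := by group
        exact Subtype.ext (inv_mul_eq_one.1 (hW _ _ (hMord _ (by
          rw [← pow_mul, mul_comm, pow_mul, hmp, one_pow])) hmi
          (hTco _ (mul_mem (inv_mem k₂.2) k₁.2)) hc)).symm
      have e1 : ∏ k : T, act ((k : Q) * m ^ i * (k : Q)⁻¹) w =
          ∏ k : T, act (k : Q) (act (m ^ i) w) := by
        refine Fintype.prod_bijective φ hφ _ _ fun k => ?_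
        rw [← MulAut.mul_apply, ← map_mul]
        simp only [φ, Subgroup.coe_mul, Subgroup.coe_inv]
        congr 2
        group
      rw [e1]
      set N := ∏ k : T, act (k : Q) (act (m ^ i) w) with hNdef
      by_contra hne
      haveI := (Subgroup.nontrivial_iff_ne_bot T).2 hT1
      obtain ⟨⟨k₀, hk₀⟩, hk₀1⟩ := exists_ne (1 : T)
      have hfx : act k₀ N = N := by
        rw [hNdef, map_prod]
        refine Fintype.prod_equiv (Equiv.mulLeft (⟨k₀, hk₀⟩ : T)) _ _ fun k => ?_
        rw [← MulAut.mul_apply, ← map_mul]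
        rfl
      have hcm : Commute k₀ (N : Q) := by
        have := congrArg Subtype.val hfx
        rw [MulAut.conjNormal_apply] at this
        exact mul_inv_eq_iff_eq_mul.1 this
      refine hk₀1 (Subtype.ext ?_)
      exact hW (N : Q) k₀ (hMord _ (hexp _ (hRP (hYR N.2)))) (fun e => hne (Subtype.ext e))
        (hTco _ hk₀) hcm.symm
    have h1 : ∏ i ∈ Finset.range p, ∏ k : T, act ((k : Q) * m ^ i * (k : Q)⁻¹) (⟨y, hy⟩ : Y) = 1 := by
      rw [Finset.prod_comm]
      refine Finset.prod_eq_one fun k _ => ?_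
      refine Eq.trans ?_ (hn k)
      exact Finset.prod_congr rfl fun i _ => by rw [conj_pow]
    rw [Finset.prod_eq_single 0 (fun i hi hi0 => hfix i (Finset.mem_range.1 hi) hi0 _)
      (fun hh => absurd (Finset.mem_range.2 hp.pos) hh)] at h1
    simp only [pow_zero, mul_one, mul_inv_cancel, map_one, MulAut.one_apply, Finset.prod_const,
      Finset.card_univ] at h1
    have hyn : y ^ Fintype.card T = 1 := congrArg Subtype.val h1
    obtain ⟨n, hn'⟩ := IsPGroup.iff_card.1 hTq
    rw [← Nat.card_eq_fintype_card, hn'] at hyn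
    obtain ⟨i, hi⟩ := hMord y (hexp _ (hRP (hYR hy)))
    exact orderOf_eq_one_iff.1 (Nat.eq_one_of_dvd_coprimes
      (((Nat.coprime_primes hp hq).2 hqp.symm).pow i n) (hi ▸ dvd_rfl) (orderOf_dvd_of_pow_eq_one hyn))

end CfsgLib.CentMax
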